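import Cfsg.Agent.H461.E2.Cent
import Cfsg.Agent.H378.TorFin

/-!
# A bound for the centralisers of the elements of prime order (helper166, S5745)

`card_fixC_le` : `|fixC τ t| ≤ |T^τ| * q^m * (|PP t| * (q + 1)^m)`, `m` the number of the positive roots trivial on `t`.
-/

set_option autoImplicit false
set_option linter.unusedSectionVars false

namespace Cfsg.Agent.H166.EP

open CoxeterSystem Cfsg Cfsg.Lie Cfsg.Lie.ChevalleyDatum
open Cfsg.Agent.ChevalleyStructure Cfsg.Agent.ChevalleyStructure.Elts Cfsg.Agent.ChevalleyStructure.CoxeterGeom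
  Cfsg.Agent.ChevalleyStructure.CoxeterGeomTypes Cfsg.Agent.ChevalleyStructure.NPerm
open Cfsg.Agent.Tits.Roots Cfsg.Agent.Tits.Core Cfsg.Agent.Nodes Cfsg.Agent.Nodes.Reps Cfsg.Agent.Nodes.BNOf
  Cfsg.Agent.Nodes.RGDChev Cfsg.Agent.Nodes.Bruhat Cfsg.Agent.Nodes.NormalForm
open Cfsg.Agent.KFacts.RgdField Cfsg.Agent.KFacts.RgdChevCoord
open Cfsg.Agent.BpExc Cfsg.Agent.BpExc.TorCent Cfsg.Agent.BpExc.TorChev Cfsg.Agent.BpExc.Tow
  Cfsg.Agent.BpExc.TowChev Cfsg.Agent.BpExc.Fr Cfsg.Agent.BpExc.Pair Cfsg.Agent.BpExc.LangFr Cfsg.Agent.GpExc.Field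
  Cfsg.Agent.BpExc.NInst Cfsg.Agent.BpExc.NChev Cfsg.Agent.H461.E2.Sup Cfsg.Agent.H461.E2.Fix
  Cfsg.Agent.H461.E2.Cent
open Cfsg.Agent.H378.TorDual Cfsg.Agent.H378.TorChar Cfsg.Agent.H378.TorFin
open scoped commutatorElement

universe u v

/-! ### The abstract counting -/

section Abs

variable {I W Y : Type*} [Fintype I] [DecidableEq I] [Group W] [Group Y] {M : CoxeterMatrix I}
  {cs : CoxeterSystem M W} {A : I → I → ℤ} {h : IsCartan M A} {p : ℕ} {T : Subgroup Y} {n : I → Y}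
  {X : (I → ℤ) → Subgroup Y} {R : RGD cs h p T n X} {t : Y} {S : Set (I → ℤ)} {τ : MulAut Y}
  {g : (I → ℤ) ≃+ (I → ℤ)} (D : Dat R t S τ g)

include D

/-- **The Bruhat form of `C_Y(t)^τ`** with the position of the right factor. -/
theorem exists_form' [Finite W] {c : Y} (hc : c ∈ fixC τ t) :
    ∃ u ∈ RGD.Sup X (SP S) ⊓ fixC τ t, ∃ w, ∃ k ∈ fixC τ t, Rp cs R.nsys w k ∧
      ∃ v ∈ RGD.Sup X (NW cs h w ∩ S) ⊓ fixC τ t, c = u * k * v := by
  obtain ⟨w, hw⟩ := (mem_GG R).1 (D.le hc)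
  obtain ⟨u, hu, k, hk, v, hv, rfl⟩ := Cfsg.Agent.Nodes.NormalForm.exists_normal_form R hw
  obtain ⟨hτ, hct⟩ := mem_fixC.1 hc
  obtain ⟨h1, h2, h3⟩ := centralizer_form R (S := {t}) (Set.singleton_subset_iff.2 D.mem) hu hk hv
    (Subgroup.mem_centralizer_singleton_iff.2 hct)
  have hu' : u ∈ RGD.Sup X (SP S) := by
    have h4 : u ∈ RGD.Sup (fun x => X x ⊓ Subgroup.centralizer {t}) (RGD.Pos cs h) := by
      rw [← centralizer_U R (Set.singleton_subset_iff.2 D.mem)]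
      exact ⟨hu, h1⟩
    exact RGD.Sup_mono (S := RGD.Pos cs h ∩ S) (S' := SP S) (fun a ha => ⟨ha.2, ha.1.2⟩)
      (D.sup_cent _ (fun a ha => ha.1) h4)
  have hv' : v ∈ RGD.Sup X (NW cs h w ∩ S) := by
    refine D.sup_cent _ (fun a ha => ha.1) ?_
    rw [NW_eq] at hv ⊢
    exact centralizer_PW R _ (Set.singleton_subset_iff.2 D.mem) hv h3
  obtain ⟨w', hk'⟩ := D.rp w k hk
  have hτv : τ v ∈ RGD.Sup X (NW cs h w') := by
    have h4 : RGD.Sup X (NW cs h w ∩ S) ≤ (RGD.Sup X (NW cs h w')).comap τ.toMonoidHom := by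
      refine RGD.Sup_le fun a ha y hy => ?_
      refine RGD.le_Sup (S := NW cs h w') ⟨(D.fr.root a).2 ha.1.1, D.pos a ha.2 ha.1.2.1, ?_⟩
        ((D.fr.map a ha.1.1 y).2 hy)
      rw [D.rep_g hk hk' ha.1.1]
      exact D.g_neg (D.act hk h2 ha.2) ha.1.2.2
    exact h4 hv'
  have e : τ u * τ k * τ v = u * k * v := by rw [← map_mul, ← map_mul]; exact hτ
  have hτu := D.U_le (D.map_U hu')
  have hB : ∀ {w : W} {v : Y}, v ∈ RGD.Sup X (NW cs h w) → v ∈ RGD.B cs h T X := fun hv =>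
    RGD.U_le_B (RGD.Sup_mono (S := NW cs h _) (S' := RGD.Pos cs h) (fun x hx => ⟨hx.1, hx.2.1⟩) hv)
  have c1 : Cell R.nsys cs h X w (u * k * v) := ⟨u, RGD.U_le_B hu, k, hk, v, hB hv, rfl⟩
  have c2 : Cell R.nsys cs h X w' (u * k * v) := ⟨τ u, RGD.U_le_B hτu, τ k, hk', τ v, hB hτv, e.symm⟩
  have hw : w = w' := Cell.unique R c1 c2
  subst hw
  obtain ⟨e1, e2, e3⟩ := Cfsg.Agent.Nodes.NormalForm.normal_form_unique R hτu hu hk' hk hτv hv e
  have hfu : u ∈ fixC τ t := mem_fixC.2 ⟨e1, Subgroup.mem_centralizer_singleton_iff.1 h1⟩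
  have hfk : k ∈ fixC τ t := mem_fixC.2 ⟨e2, Subgroup.mem_centralizer_singleton_iff.1 h2⟩
  have hfv : v ∈ fixC τ t := mem_fixC.2 ⟨e3, Subgroup.mem_centralizer_singleton_iff.1 h3⟩
  exact ⟨u, ⟨hu', hfu⟩, w, k, hfk, hk, v, ⟨hv', hfv⟩, rfl⟩

/-- the elements of `W` with a representative in `fixC τ t` -/
def Wt (R : RGD cs h p T n X) (t : Y) (τ : MulAut Y) : Set W := {w | ∃ k ∈ fixC τ t, Rp cs R.nsys w k}

/-- for `w ∈ Wt` the set `NW w ∩ S` is `g`-invariant -/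
theorem g_inv [Finite W] {w : W} (hw : w ∈ Wt R t τ) {a : I → ℤ} (ha : a ∈ NW cs h w ∩ S) :
    g a ∈ NW cs h w ∩ S := by
  obtain ⟨k, hk, hkw⟩ := hw
  obtain ⟨hτk, hkt⟩ := mem_fixC.1 hk
  refine ⟨⟨(D.fr.root a).2 ha.1.1, D.pos a ha.2 ha.1.2.1, ?_⟩, D.g_mem ha.2⟩
  have hk' : Rp cs R.nsys w (τ k) := by rw [hτk]; exact hkw
  rw [D.rep_g hkw hk' ha.1.1]
  exact D.g_neg (D.act hkw (Subgroup.mem_centralizer_singleton_iff.2 hkt) ha.2) ha.1.2.2

/-- **The count.** -/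
theorem card_fixC_le_sum [Finite W] [Finite ↥(fixC τ t)] (b : Finset W) (hb : ∀ w ∈ Wt R t τ, w ∈ b) :
    Nat.card ↥(fixC τ t) ≤ ∑ w ∈ b, Nat.card ↥(RGD.Sup X (SP S) ⊓ fixC τ t) *
      (Nat.card ↥(T ⊓ fixC τ t) * Nat.card ↥(RGD.Sup X (NW cs h w ∩ S) ⊓ fixC τ t)) := by
  classical
  have hfin : ∀ Q : Subgroup Y, Finite ↥(Q ⊓ fixC τ t) := fun Q =>
    Finite.of_injective (Subgroup.inclusion (inf_le_right : Q ⊓ fixC τ t ≤ fixC τ t))
      (Subgroup.inclusion_injective _)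
  -- a representative for every element of `Wt`
  let κ : W → Y := fun w => if h : w ∈ Wt R t τ then h.choose else 1
  have hκ : ∀ w (h : w ∈ Wt R t τ), κ w ∈ fixC τ t ∧ Rp cs R.nsys w (κ w) := by
    intro w hw
    have e : κ w = hw.choose := dif_pos hw
    rw [e]
    exact hw.choose_spec
  have hform : ∀ c : ↥(fixC τ t), ∃ x : (Σ w : ↥b, ↥(RGD.Sup X (SP S) ⊓ fixC τ t) × ↥(T ⊓ fixC τ t) ×
      ↥(RGD.Sup X (NW cs h w ∩ S) ⊓ fixC τ t)), (c : Y) = x.2.1.1 * (κ x.1 * x.2.2.1.1) * x.2.2.2.1 := by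
    rintro ⟨c, hc⟩
    obtain ⟨u, hu, w, k, hk, hkw, v, hv, rfl⟩ := exists_form' D hc
    have hw : w ∈ Wt R t τ := ⟨k, hk, hkw⟩
    obtain ⟨h1, h2⟩ := hκ w hw
    refine ⟨⟨⟨w, hb w hw⟩, ⟨u, hu⟩, ⟨(κ w)⁻¹ * k, ?_, (fixC τ t).mul_mem ((fixC τ t).inv_mem h1) hk⟩, ⟨v, hv⟩⟩, ?_⟩
    · exact h2.unique hkw
    · show u * k * v = u * (κ w * ((κ w)⁻¹ * k)) * v
      group
  choose f hf using hform
  have hinj : Function.Injective f := by
    intro a b hab
    apply Subtype.ext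
    rw [hf a, hf b, hab]
  have : ∀ w : ↥b, Finite (↥(RGD.Sup X (SP S) ⊓ fixC τ t) × ↥(T ⊓ fixC τ t) ×
      ↥(RGD.Sup X (NW cs h w ∩ S) ⊓ fixC τ t)) := fun w => by
    have := hfin (RGD.Sup X (SP S))
    have := hfin T
    have := hfin (RGD.Sup X (NW cs h w ∩ S))
    infer_instance
  refine (Nat.card_le_card_of_injective f hinj).trans (le_of_eq ?_)
  rw [Nat.card_sigma, ← Finset.sum_coe_sort b]
  exact Finset.sum_congr rfl fun w _ => by rw [Nat.card_prod, Nat.card_prod]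

omit D in
/-- **The sum over the Weyl group.** -/
theorem sum_pow_le {b : Finset W} (P : Subgroup W) [Finite P] (hSf : (SP S).Finite)
    (hP : ∀ w ∈ b, ∀ w' ∈ b, NW cs h w ∩ S = NW cs h w' ∩ S → w' * w⁻¹ ∈ P) (q : ℕ) :
    ∑ w ∈ b, q ^ (NW cs h w ∩ S).ncard ≤ Nat.card P * (q + 1) ^ (SP S).ncard := by
  classical
  let F : Finset (I → ℤ) := hSf.toFinset
  let f : W → Finset (I → ℤ) := fun w => F.filter (fun a => a ∈ NW cs h w)
  have hf : ∀ w, (f w : Set (I → ℤ)) = NW cs h w ∩ S := by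
    intro w
    ext a
    simp only [f, F, Finset.coe_filter, Set.Finite.mem_toFinset, Set.mem_ofPred_eq]
    constructor
    · rintro ⟨h1, h2⟩
      exact ⟨h2, h1.1⟩
    · rintro ⟨h1, h2⟩
      exact ⟨⟨h2, h1.2.1⟩, h1⟩
  have hc : ∀ w, (NW cs h w ∩ S).ncard = (f w).card := fun w => by rw [← hf, Set.ncard_coe_finset]
  have h1 : ∑ w ∈ b, q ^ (NW cs h w ∩ S).ncard =
      ∑ A ∈ F.powerset, ∑ w ∈ b.filter (fun w => f w = A), q ^ (NW cs h w ∩ S).ncard := by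
    refine (Finset.sum_fiberwise_of_maps_to (fun w _ => ?_) _).symm
    exact Finset.mem_powerset.2 (Finset.filter_subset _ _)
  have h2 : ∀ A ∈ F.powerset, ∑ w ∈ b.filter (fun w => f w = A), q ^ (NW cs h w ∩ S).ncard ≤
      Nat.card P * q ^ A.card := by
    intro A _
    have h3 : ∑ w ∈ b.filter (fun w => f w = A), q ^ (NW cs h w ∩ S).ncard =
        ∑ w ∈ b.filter (fun w => f w = A), q ^ A.card := by
      refine Finset.sum_congr rfl fun w hw => ?_
      rw [hc, (Finset.mem_filter.1 hw).2]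
    rw [h3, Finset.sum_const, smul_eq_mul]
    refine Nat.mul_le_mul_right _ ?_
    rcases (b.filter (fun w => f w = A)).eq_empty_or_nonempty with h4 | ⟨w0, hw0⟩
    · rw [h4, Finset.card_empty]; exact Nat.zero_le _
    · obtain ⟨h5, h6⟩ := Finset.mem_filter.1 hw0
      have h7 : ∀ w ∈ b.filter (fun w => f w = A), w * w0⁻¹ ∈ P := by
        intro w hw
        obtain ⟨h8, h9⟩ := Finset.mem_filter.1 hw
        refine hP w0 h5 w h8 ?_
        rw [← hf, ← hf, h6, h9]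
      have h8 := Nat.card_le_card_of_injective (fun w : ↥(b.filter (fun w => f w = A)) =>
        (⟨w.1 * w0⁻¹, h7 w.1 w.2⟩ : P)) (fun x y hxy => Subtype.ext (mul_right_cancel (congrArg Subtype.val hxy)))
      rwa [Nat.card_eq_fintype_card, Fintype.card_coe] at h8
  rw [h1]
  refine (Finset.sum_le_sum h2).trans (le_of_eq ?_)
  rw [← Finset.mul_sum]
  congr 1
  have h3 := Finset.sum_pow_mul_eq_add_pow q 1 F
  simp only [one_pow, mul_one] at h3
  rw [h3]
  congr 1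
  rw [← Set.ncard_coe_finset]
  simp [F]

end Abs

/-! ### The Chevalley groups -/

section

variable {D : ChevalleyDatum} {l : ℕ} {M : CoxeterMatrix (Fin l)} (hp : IsType D l M) {k : Type u} [Field k]
  {W : Type*} [Group W] (cs : CoxeterSystem M W)

/-- The data of `fixC τ t` at a finite level. -/
theorem exists_dat [IsAlgClosed k] (hk : LocFin k) {r e : ℕ} [Fact r.Prime] [CharP k r]
    {t : ↥(D.group k)} (ht : t ∈ TT D k) (he : 0 < e) {τ : MulAut ↥(D.group k)}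
    (hτ : IsFrob r e τ) {g : (Fin l → ℤ) ≃+ (Fin l → ℤ)} (F : Fr cs hp.isCartan (TT D k) (XX D l k) τ g)
    (hτt : τ t = t) (hpos : ∀ a ∈ Sx cs hp.isCartan (ch hp) t, 0 ≤ a → 0 ≤ g a) [Finite ↥(fixC τ t)] :
    ∃ E : Lev k, Dat ((tow (k := k) hp cs hk r).rgd E) t (Sx cs hp.isCartan (ch hp) t) τ g := by
  have := finite_W hp cs
  have H := tow (k := k) hp cs hk r
  have C := coordsL (k := k) hp cs hk r
  have hA := chAddL (k := k) hp cs hk r
  have hG := GG_eq_top (k := k) hp cs hk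
  have hTL := TL_eq (k := k) hp hk
  have hXL := XL_eq (k := k) hp hk
  have F' : Fr cs hp.isCartan (TL (Tj hp (k := k))) (XL (Xj hp (k := k))) τ g := by rw [hTL, hXL]; exact F
  have hsep : ∀ a, IsRoot cs hp.isCartan a → ∃ s ∈ TL (Tj hp (k := k)), ∀ u ∈ XL (Xj hp (k := k)) a,
      u * s = s * u → u = 1 := by
    rw [hTL, hXL]
    exact fun a ha => sep hp cs hk r ha
  obtain ⟨E1, hE1⟩ := HX.fr_level hp cs hk hτ F
  obtain ⟨E2, hE2⟩ := HX.exists_fixed_level hp cs hk he hτ F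
  obtain ⟨E3, hE3⟩ := exists_TT hp hk ht
  obtain ⟨E4, hE4⟩ := exists_level_finite hp hk (S := (fixC τ t : Set ↥(D.group k))) (Set.toFinite _)
  obtain ⟨E5, a1, a2⟩ := dir_lev hk E1 E2
  obtain ⟨E6, a3, a4⟩ := dir_lev hk E3 E4
  obtain ⟨E, b1, b2⟩ := dir_lev hk E5 E6
  have FE := hE1 E (a1.trans b1)
  have hX : ∀ a, Xj hp E a ≤ XX D l k a := fun a => by rw [← hXL]; exact le_XL E a
  obtain ⟨t', ht', htt⟩ := hE3 E (a3.trans b2)
  have htE : t ∈ Tj hp E := ⟨t', ht', htt⟩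
  exact ⟨E,
    { mem := htE
      root := fun a ha => ha.1
      neg := fun a ha => chi_neg C ht hA ha
      cent := fun a ha => (hX a).trans (X_le_centralizer C ht ha)
      of_cent := fun a ha u hu hu1 hc => mem_Sx_of_centralizer C ht ha (hX a hu) hu1 hc
      fr := FE
      fix := hτt
      pos := hpos
      rp := fun w kk hkk => by
        obtain ⟨w', hw'⟩ := rp_fr H hG hsep F' (H.rp_up hkk)
        obtain ⟨k0, h0, h0'⟩ := H.exists_rp w'
        have h1 : k0⁻¹ * τ kk ∈ TT D k := by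
          rw [← hTL]
          exact h0'.unique hw'
        have h2 : k0⁻¹ * τ kk ∈ (emb hp.inList E.1.subtype).range := by
          rw [← GGj_eq hp cs]
          refine mul_mem (inv_mem ?_) (fr_GG FE ?_)
          · exact (mem_GG (H.rgd E)).2 ⟨w', cell_of_rp (h0 E)⟩
          · exact (mem_GG (H.rgd E)).2 ⟨w, cell_of_rp hkk⟩
        have h3 : k0⁻¹ * τ kk ∈ Tj hp E := (HX.mem_Tj hp cs hk r).2 ⟨h1, h2⟩
        have e : τ kk = k0 * (k0⁻¹ * τ kk) := by group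
        exact ⟨w', by rw [e]; exact (h0 E).mul_mem_right h3⟩
      comm := fun x hx y hy hxy hxy' a ha b hb => by
        have h1 := CommZ.comm_mem_Zj hp cs E hx.1 hy.1 hxy hxy' ha hb
        refine RGD.Sup_mono (S := CommZ.combZ cs hp x y) ?_ h1
        rintro z ⟨hz, i, j, hi, hj, e⟩
        obtain ⟨φ, h0, hadd, hφ⟩ := hA t ht
        have hn : ∀ (i : ℕ) (x : Fin l → ℤ), φ (i • x) = φ x ^ i := by
          intro i x
          induction i with
          | zero => rw [zero_smul, pow_zero, h0]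
          | succ i ih => rw [succ_nsmul, hadd, ih, pow_succ]
        refine ⟨⟨hz, ?_⟩, i, j, hi, hj, e⟩
        rw [hφ z hz, e, hadd, hn, hn, ← hφ x hx.1, ← hφ y hy.1, hx.2, hy.2, one_pow, one_pow, one_mul]
      fixed := fun a ha => hE2 E (a2.trans b1) a ha.1
      le := fun y hy => by
        rw [GGj_eq hp cs]
        exact hE4 E (a4.trans b2) hy }⟩

/-- `NW w ∩ S` is closed under integral combinations -/
theorem zcl_NW {r : ℕ} [Fact r.Prime] [CharP k r] (hk : LocFin k) {t : ↥(D.group k)} (ht : t ∈ TT D k) (w : W) :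
    ZCl cs hp.isCartan (NW cs hp.isCartan w ∩ Sx cs hp.isCartan (ch hp) t) := by
  have hA := chAddL (k := k) hp cs hk r
  rintro x ⟨⟨hx, hx0, hxw⟩, -, hx1⟩ y ⟨⟨hy, hy0, hyw⟩, -, hy1⟩ z hz ⟨i, j, hi, hj, e⟩
  obtain ⟨φ, h0, hadd, hφ⟩ := hA t ht
  have hn : ∀ (i : ℕ) (x : Fin l → ℤ), φ (i • x) = φ x ^ i := by
    intro i x
    induction i with
    | zero => rw [zero_smul, pow_zero, h0]
    | succ i ih => rw [succ_nsmul, hadd, ih, pow_succ]
  refine ⟨⟨hz, ?_, ?_⟩, hz, ?_⟩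
  · rw [e]
    exact add_nonneg (nsmul_nonneg hx0 i) (nsmul_nonneg hy0 j)
  · rw [e, map_add, map_nsmul, map_nsmul]
    exact add_nonpos (nsmul_nonpos hxw i) (nsmul_nonpos hyw j)
  · rw [hφ z hz, e, hadd, hn, hn, ← hφ x hx, ← hφ y hy, hx1, hy1, one_pow, one_pow, one_mul]

/-- **The bound for `fixC τ t`.** -/
theorem card_fixC_le [IsAlgClosed k] [Finite W] (hk : LocFin k) {r e : ℕ} [Fact r.Prime] [CharP k r]
    {t : ↥(D.group k)} (ht : t ∈ TT D k) (he : 0 < e) {τ : MulAut ↥(D.group k)}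
    (hτ : IsFrob r e τ) {g : (Fin l → ℤ) ≃+ (Fin l → ℤ)} (F : Fr cs hp.isCartan (TT D k) (XX D l k) τ g)
    (hτt : τ t = t) (hpos : ∀ a ∈ Sx cs hp.isCartan (ch hp) t, 0 ≤ a → 0 ≤ g a) [Finite ↥(fixC τ t)]
    [Finite ↥(TT D k ⊓ fixedSubgroup τ)] :
    Nat.card ↥(fixC τ t) ≤ (r ^ e) ^ (SP (Sx cs hp.isCartan (ch hp) t)).ncard *
      (Nat.card ↥(TT D k ⊓ fixedSubgroup τ) * (Nat.card ↥(PP cs hp.isCartan (ch hp) t) *
        (r ^ e + 1) ^ (SP (Sx cs hp.isCartan (ch hp) t)).ncard)) := by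
  classical
  have H := tow (k := k) hp cs hk r
  have C := coordsL (k := k) hp cs hk r
  have hTL := TL_eq (k := k) hp hk
  have hXL := XL_eq (k := k) hp hk
  obtain ⟨E, Dt⟩ := exists_dat hp cs hk ht he hτ F hτt hpos
  set S := Sx cs hp.isCartan (ch hp) t with hS
  let _ : Fintype W := Fintype.ofFinite W
  let b : Finset W := Finset.univ.filter (fun w => w ∈ Wt (H.rgd E) t τ)
  have hX : ∀ a, Xj hp E a ≤ XX D l k a := fun a => by rw [← hXL]; exact le_XL E a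
  have hT : Tj hp E ≤ TT D k := by rw [← hTL]; exact le_TL E
  have hq : 0 < r ^ e := pow_pos (Fact.out : r.Prime).pos e
  -- the unipotent parts
  have hU : ∀ Ψ : Set (Fin l → ℤ), Ψ ⊆ RGD.Pos cs hp.isCartan → ZCl cs hp.isCartan Ψ → (∀ a ∈ Ψ, g a ∈ Ψ) →
      Nat.card ↥(RGD.Sup (Xj hp E) Ψ ⊓ fixC τ t) ≤ (r ^ e) ^ Ψ.ncard := by
    intro Ψ h1 h2 h3
    have h4 := card_fix (hp := hp) (cs := cs) hk r he hτ F h1 h2 h3
    rw [← h4]
    have h5 : Finite ↥(RGD.Sup (XX D l k) Ψ ⊓ fixedSubgroup τ) := Nat.finite_of_card_ne_zero (by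
      rw [h4]; exact (pow_pos hq _).ne')
    refine Nat.card_le_card_of_injective (Subgroup.inclusion ?_) (Subgroup.inclusion_injective _)
    rintro y ⟨h6, h7⟩
    refine ⟨?_, (mem_fixC.1 h7).1⟩
    have h8 := Sup_le_SupL E Ψ h6
    rwa [hXL] at h8
  have hTT : Nat.card ↥(Tj hp E ⊓ fixC τ t) ≤ Nat.card ↥(TT D k ⊓ fixedSubgroup τ) :=
    have h0 : Tj hp E ⊓ fixC τ t ≤ TT D k ⊓ fixedSubgroup τ := fun y hy => ⟨hT hy.1, (mem_fixC.1 hy.2).1⟩
    Nat.card_le_card_of_injective (Subgroup.inclusion h0) (Subgroup.inclusion_injective _)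
  have h1 := card_fixC_le_sum Dt b (fun w hw => Finset.mem_filter.2 ⟨Finset.mem_univ _, hw⟩)
  refine h1.trans ?_
  have h2 : ∀ w ∈ b, Nat.card ↥(RGD.Sup (Xj hp E) (SP S) ⊓ fixC τ t) *
      (Nat.card ↥(Tj hp E ⊓ fixC τ t) * Nat.card ↥(RGD.Sup (Xj hp E) (NW cs hp.isCartan w ∩ S) ⊓ fixC τ t)) ≤
      (r ^ e) ^ (SP S).ncard * (Nat.card ↥(TT D k ⊓ fixedSubgroup τ) *
        (r ^ e) ^ (NW cs hp.isCartan w ∩ S).ncard) := by
    intro w hw
    have hw' := (Finset.mem_filter.1 hw).2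
    refine Nat.mul_le_mul ?_ (Nat.mul_le_mul hTT ?_)
    · exact hU _ Dt.SP_le (zcl_Sx (r := r) hp cs hk ht) (fun a ha => ⟨Dt.g_mem ha.1, Dt.pos a ha.1 ha.2⟩)
    · exact hU _ (fun a ha => ⟨ha.1.1, ha.1.2.1⟩) (zcl_NW (r := r) hp cs hk ht w) (fun a ha => g_inv Dt hw' ha)
  refine (Finset.sum_le_sum h2).trans ?_
  rw [← Finset.mul_sum, ← Finset.mul_sum]
  refine Nat.mul_le_mul_left _ (Nat.mul_le_mul_left _ ?_)
  have hroots : {a | IsRoot cs hp.isCartan a}.Finite := RGD.finite_roots (cs := cs) (h := hp.isCartan)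
  refine sum_pow_le (PP cs hp.isCartan (ch hp) t) (hroots.subset fun a ha => ha.1.1) ?_ _
  -- the fibres
  have C' : Coords cs hp.isCartan (TL (Tj hp (k := k))) (nc hp k) (XL (Xj hp (k := k))) (xc hp) (ch hp) := by
    rw [hTL, hXL]; exact C
  have ht' : t ∈ TL (Tj hp (k := k)) := by rw [hTL]; exact ht
  have hchi : ∀ w ∈ b, ∀ a, IsRoot cs hp.isCartan a → ch hp (rep cs hp.isCartan w a) t = ch hp a t := by
    intro w hw a ha
    obtain ⟨kk, hkf, hkk⟩ := (Finset.mem_filter.1 hw).2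
    have h1 := C'.chi_rp H.nsys (H.rp_up hkk) ha ht'
    have h2 : kk * t * kk⁻¹ = t := by rw [(mem_fixC.1 hkf).2]; group
    rwa [h2] at h1
  have hmem : ∀ w ∈ b, ∀ a, IsRoot cs hp.isCartan a → (rep cs hp.isCartan w a ∈ S ↔ a ∈ S) := by
    intro w hw a ha
    constructor
    · rintro ⟨-, h2⟩
      exact ⟨ha, by rw [← hchi w hw a ha]; exact h2⟩
    · rintro ⟨-, h2⟩
      exact ⟨ha.act w, by rw [hchi w hw a ha]; exact h2⟩
  intro w hw w' hw' hNW
  refine mem_PP.2 ⟨fun a ha => ?_, fun a ha h0 => ?_⟩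
  · rw [rep_mul_apply, hchi w' hw' _ (ha.act w⁻¹), ← hchi w hw _ (ha.act w⁻¹), rep_apply_inv]
  · rw [rep_mul_apply]
    set c := rep cs hp.isCartan w⁻¹ a with hc
    have hcr : IsRoot cs hp.isCartan c := ha.1.act w⁻¹
    have hwc : rep cs hp.isCartan w c = a := rep_apply_inv _ _ _ _
    have hcS : c ∈ S := (hmem w hw c hcr).1 (by rw [hwc]; exact ha)
    rcases hcr.pos_or_neg with h3 | h3
    · -- `c > 0`, `w c = a > 0`
      rcases (hcr.act w').pos_or_neg with h4 | h4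
      · exact h4
      · exfalso
        have h5 : c ∈ NW cs hp.isCartan w' ∩ S := ⟨⟨hcr, h3, h4⟩, hcS⟩
        rw [← hNW] at h5
        have h6 := h5.1.2.2
        rw [hwc] at h6
        exact ha.1.not_pos_neg h0 h6
    · have h5 : -c ∈ NW cs hp.isCartan w ∩ S := by
        refine ⟨⟨hcr.neg, neg_nonneg.2 h3, ?_⟩, Dt.neg c hcS⟩
        rw [map_neg, hwc]
        exact neg_nonpos.2 h0
      rw [hNW] at h5
      have h6 := h5.1.2.2
      rw [map_neg] at h6
      exact neg_nonpos.1 h6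

end

/-! ### The determinant of `g - q` -/

/-- **The determinant of `g - q`, `g` of finite order.** -/
theorem det_mat_le {n : ℕ} (A : Matrix (Fin n) (Fin n) ℤ) {m : ℕ} (hm : m ≠ 0) (hA : A ^ m = 1) (q : ℕ) :
    (A - (q : ℤ) • (1 : Matrix (Fin n) (Fin n) ℤ)).det.natAbs ≤ (q + 1) ^ n := by
  classical
  set B : Matrix (Fin n) (Fin n) ℂ := A.map (Int.castRingHom ℂ) with hB
  have hBm : B ^ m = 1 := by
    have h1 : (Int.castRingHom ℂ).mapMatrix (A ^ m) = (Int.castRingHom ℂ).mapMatrix 1 := by rw [hA]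
    rw [map_pow, map_one] at h1
    exact h1
  have hroot : ∀ α ∈ B.charpoly.roots, ‖(q : ℂ) - α‖ ≤ q + 1 := by
    intro α hα
    have h1 : B.charpoly.eval α = 0 := (Polynomial.mem_roots'.1 hα).2
    rw [Matrix.eval_charpoly] at h1
    obtain ⟨v, hv, hv'⟩ := Matrix.exists_mulVec_eq_zero_iff.2 h1
    have h2 : B.mulVec v = α • v := by
      rw [Matrix.sub_mulVec, sub_eq_zero] at hv'
      rw [← hv']
      simp [Matrix.scalar_apply]
    have h3 : ∀ j : ℕ, (B ^ j).mulVec v = α ^ j • v := by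
      intro j
      induction j with
      | zero => simp
      | succ j ih => rw [pow_succ', ← Matrix.mulVec_mulVec, ih, Matrix.mulVec_smul, h2, smul_smul, pow_succ]
    have h4 := h3 m
    rw [hBm, Matrix.one_mulVec] at h4
    have h5 : α ^ m = 1 := by
      by_contra h6
      apply hv
      have h7 : (α ^ m - 1) • v = 0 := by rw [sub_smul, ← h4, one_smul, sub_self]
      exact (smul_eq_zero.1 h7).resolve_left (sub_ne_zero.2 h6)
    have h6 : ‖α‖ = 1 := by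
      have h7 : ‖α‖ ^ m = 1 := by rw [← norm_pow, h5, norm_one]
      exact (pow_eq_one_iff_of_nonneg (norm_nonneg _) hm).1 h7
    calc ‖(q : ℂ) - α‖ ≤ ‖(q : ℂ)‖ + ‖α‖ := norm_sub_le _ _
      _ = q + 1 := by rw [h6]; simp
  have h1 : ‖((Matrix.scalar (Fin n)) (q : ℂ) - B).det‖ ≤ (q + 1 : ℝ) ^ n := by
    rw [← Matrix.eval_charpoly,
      (IsAlgClosed.splits B.charpoly).eval_eq_prod_roots_of_monic (Matrix.charpoly_monic B)]
    have h2 : Multiset.card B.charpoly.roots = n := by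
      rw [← (IsAlgClosed.splits B.charpoly).natDegree_eq_card_roots, Matrix.charpoly_natDegree_eq_dim,
        Fintype.card_fin]
    have h3 : ∀ s : Multiset ℂ, (∀ α ∈ s, ‖(q : ℂ) - α‖ ≤ q + 1) →
        ‖(s.map fun α => (q : ℂ) - α).prod‖ ≤ (q + 1 : ℝ) ^ Multiset.card s := by
      intro s
      induction s using Multiset.induction with
      | empty => simp
      | cons a s ih =>
        intro h
        rw [Multiset.map_cons, Multiset.prod_cons, norm_mul, Multiset.card_cons, pow_succ']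
        exact mul_le_mul (h a (Multiset.mem_cons_self a s)) (ih fun α hα => h α (Multiset.mem_cons_of_mem hα))
          (norm_nonneg _) (by positivity)
    have h4 := h3 _ hroot
    rwa [h2] at h4
  have h2 : ‖(((A - (q : ℤ) • (1 : Matrix (Fin n) (Fin n) ℤ)).det : ℤ) : ℂ)‖ =
      ‖((Matrix.scalar (Fin n)) (q : ℂ) - B).det‖ := by
    have h3 : (((A - (q : ℤ) • (1 : Matrix (Fin n) (Fin n) ℤ)).det : ℤ) : ℂ) =
        (-((Matrix.scalar (Fin n)) (q : ℂ) - B)).det := by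
      have h4 := (Int.castRingHom ℂ).map_det (A - (q : ℤ) • (1 : Matrix (Fin n) (Fin n) ℤ))
      rw [show (((A - (q : ℤ) • (1 : Matrix (Fin n) (Fin n) ℤ)).det : ℤ) : ℂ) =
        (Int.castRingHom ℂ) (A - (q : ℤ) • (1 : Matrix (Fin n) (Fin n) ℤ)).det from rfl, h4]
      congr 1
      ext i j
      simp only [RingHom.mapMatrix_apply, Matrix.map_apply, Matrix.sub_apply, Matrix.smul_apply, Matrix.neg_apply,
        Matrix.scalar_apply, Matrix.diagonal_apply, Matrix.one_apply, hB, smul_eq_mul, map_sub, map_mul]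
      split_ifs <;> simp
    rw [h3, Matrix.det_neg, norm_mul, norm_pow, norm_neg, norm_one, one_pow, one_mul]
  rw [← h2, Complex.norm_intCast] at h1
  have h3 : (((A - (q : ℤ) • (1 : Matrix (Fin n) (Fin n) ℤ)).det.natAbs : ℕ) : ℝ) ≤ ((q + 1) ^ n : ℕ) := by
    push_cast
    rw [Nat.cast_natAbs, Int.cast_abs]
    exact h1
  exact_mod_cast h3

/-- **The same for endomorphisms of `ℤ^l`.** -/
theorem det_end_le {l : ℕ} (g : Module.End ℤ (Fin l → ℤ)) {m : ℕ} (hm : m ≠ 0) (hg : g ^ m = 1) (q : ℕ) :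
    (LinearMap.det (g - (q : ℤ) • (1 : Module.End ℤ (Fin l → ℤ)))).natAbs ≤ (q + 1) ^ l := by
  have h1 := det_mat_le (LinearMap.toMatrixAlgEquiv' g) hm (by rw [← map_pow, hg, map_one]) q
  refine le_trans (le_of_eq ?_) h1
  congr 1
  rw [← LinearMap.det_toMatrix']
  congr 1
  show LinearMap.toMatrixAlgEquiv' (g - (q : ℤ) • (1 : Module.End ℤ (Fin l → ℤ))) = _
  rw [map_sub, map_smul, map_one]

/-! ### The fixed points of the torus -/

section Tor

variable {D : ChevalleyDatum} {l : ℕ} {M : CoxeterMatrix (Fin l)} (hp : IsType D l M) {k : Type u} [Field k]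
  {W : Type*} [Group W] (cs : CoxeterSystem M W)

/-- an additive automorphism as an endomorphism -/
def en (g : (Fin l → ℤ) ≃+ (Fin l → ℤ)) : Module.End ℤ (Fin l → ℤ) := g.toAddMonoidHom.toIntLinearMap

theorem en_apply (g : (Fin l → ℤ) ≃+ (Fin l → ℤ)) (x : Fin l → ℤ) : en g x = g x := rfl

theorem en_pow_apply (g : (Fin l → ℤ) ≃+ (Fin l → ℤ)) (j : ℕ) (x : Fin l → ℤ) : (en g ^ j) x = g^[j] x := by
  induction j with
  | zero => rfl
  | succ j ih => rw [pow_succ', Module.End.mul_apply, ih, Function.iterate_succ_apply', en_apply]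

theorem end_ext {f f' : Module.End ℤ (Fin l → ℤ)} (h : ∀ i, f (sr i) = f' (sr i)) : f = f' := by
  refine LinearMap.ext fun x => ?_
  rw [sum_sr x, map_sum, map_sum]
  exact Finset.sum_congr rfl fun i _ => by rw [map_smul, map_smul, h i]

/-- **`g` has finite order.** -/
theorem exists_pow [Finite W] {A : Fin l → Fin l → ℤ} (h : IsCartan M A) {g : (Fin l → ℤ) ≃+ (Fin l → ℤ)}
    (hg : ∀ a, IsRoot cs h (g a) ↔ IsRoot cs h a) : ∃ m, m ≠ 0 ∧ en g ^ m = 1 := by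
  have : Finite ↥{a | IsRoot cs h a} := (RGD.finite_roots (cs := cs) (h := h)).to_subtype
  let σ : Equiv.Perm ↥{a | IsRoot cs h a} := g.toEquiv.subtypeEquiv fun a => (hg a).symm
  have h1 : ∀ (j : ℕ) (a : ↥{a | IsRoot cs h a}), ((σ ^ j) a).1 = g^[j] a.1 := by
    intro j a
    induction j with
    | zero => rfl
    | succ j ih =>
      rw [pow_succ', Equiv.Perm.mul_apply, Function.iterate_succ_apply', ← ih]
      rfl
  refine ⟨orderOf σ, (orderOf_pos σ).ne', end_ext fun i => ?_⟩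
  rw [en_pow_apply, Module.End.one_apply]
  have h2 := h1 (orderOf σ) ⟨sr i, isRoot_sr cs h i⟩
  rw [pow_orderOf_eq_one] at h2
  exact h2.symm

/-- **`ch (g a) (τ t) = (ch a t)^q`.** -/
theorem ch_fr [IsAlgClosed k] (hk : LocFin k) {r e : ℕ} [Fact r.Prime] [CharP k r] {τ : MulAut ↥(D.group k)}
    (hτ : IsFrob r e τ) {g : (Fin l → ℤ) ≃+ (Fin l → ℤ)} (F : Fr cs hp.isCartan (TT D k) (XX D l k) τ g)
    {t : ↥(D.group k)} (ht : t ∈ TT D k) {a : Fin l → ℤ} (ha : IsRoot cs hp.isCartan a) :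
    ch hp (g a) (τ t) = ch hp a t ^ r ^ e := by
  have C := coordsL (k := k) hp cs hk r
  obtain ⟨c, hc, h⟩ := HX.fr_xc hp cs hτ F ha
  have h1 := (C.coord a ha).act t ht 1
  have h2 := congrArg τ h1
  rw [map_mul, map_mul, map_inv, h, h, (C.coord (g a) ((F.root a).2 ha)).act _ ((F.tor t).2 ht), mul_one, one_pow,
    mul_one] at h2
  have h3 := (C.coord (g a) ((F.root a).2 ha)).inj h2
  rw [mul_comm c] at h3
  exact mul_right_cancel₀ hc h3

/-- the fixed points of `τ` give characters in the kernel of `g - q` -/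
theorem tchar_mem [IsAlgClosed k] (hk : LocFin k) {r e : ℕ} [Fact r.Prime] [CharP k r] {τ : MulAut ↥(D.group k)}
    (hτ : IsFrob r e τ) {g : (Fin l → ℤ) ≃+ (Fin l → ℤ)} (F : Fr cs hp.isCartan (TT D k) (XX D l k) τ g)
    {t : ↥(TT D k)} (hτt : τ t.1 = t.1) :
    tchar hp t ∈ KerOf k (en g - ((r ^ e : ℕ) : ℤ) • (1 : Module.End ℤ (Fin l → ℤ))) := by
  set f := en g - ((r ^ e : ℕ) : ℤ) • (1 : Module.End ℤ (Fin l → ℤ)) with hf
  have h1 : (tchar hp t).comp (AddMonoidHom.toMultiplicative f.toAddMonoidHom) = 1 := by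
    refine ext_sr fun i => ?_
    show tchar hp t (Multiplicative.ofAdd (f (sr i))) = 1
    have h2 : f (sr i) = g (sr i) - ((r ^ e : ℕ) : ℤ) • sr i := rfl
    rw [h2, ofAdd_sub, map_div, ofAdd_zsmul, map_zpow, div_eq_one, zpow_natCast]
    apply Units.ext
    have h3 := isRoot_sr cs hp.isCartan i
    rw [Units.val_pow_eq_pow_val, tchar_apply hp cs hk r t ((F.root _).2 h3), tchar_apply hp cs hk r t h3,
      ← ch_fr hp cs hk hτ F t.2 h3, hτt]
  intro x
  exact congrArg (fun ψ : Ch l k => ψ (Multiplicative.ofAdd x)) h1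

/-- **The number of the fixed points of the torus.** -/
theorem card_T_le_det [IsAlgClosed k] (hk : LocFin k) {r e : ℕ} [Fact r.Prime] [CharP k r] (he : 0 < e)
    {τ : MulAut ↥(D.group k)}
    (hτ : IsFrob r e τ) {g : (Fin l → ℤ) ≃+ (Fin l → ℤ)} (F : Fr cs hp.isCartan (TT D k) (XX D l k) τ g) :
    Finite ↥(TT D k ⊓ fixedSubgroup τ) ∧ Nat.card ↥(TT D k ⊓ fixedSubgroup τ) ≤
      (LinearMap.det (en g - ((r ^ e : ℕ) : ℤ) • (1 : Module.End ℤ (Fin l → ℤ)))).natAbs := by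
  have hdet : ((LinearMap.det (en g - ((r ^ e : ℕ) : ℤ) • (1 : Module.End ℤ (Fin l → ℤ))) : ℤ) : k) ≠ 0 := by
    refine det_ne_zero (w' := en g.symm) ?_ ?_
    · refine LinearMap.ext fun x => ?_
      rw [Module.End.mul_apply, en_apply, en_apply, AddEquiv.apply_symm_apply, Module.End.one_apply]
    · rw [Int.cast_natCast, Nat.cast_pow, CharP.cast_eq_zero, zero_pow he.ne']
  have hcard := card_kerOf k hdet
  have hfin : Finite ↥(KerOf k (en g - ((r ^ e : ℕ) : ℤ) • (1 : Module.End ℤ (Fin l → ℤ)))) := by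
    apply Nat.finite_of_card_ne_zero
    rw [hcard]
    intro h0
    rw [Int.natAbs_eq_zero] at h0
    rw [h0, Int.cast_zero] at hdet
    exact hdet rfl
  let f : ↥(TT D k ⊓ fixedSubgroup τ) → ↥(KerOf k (en g - ((r ^ e : ℕ) : ℤ) • (1 : Module.End ℤ (Fin l → ℤ)))) :=
    fun t => ⟨tchar hp ⟨t.1, t.2.1⟩, tchar_mem hp cs hk hτ F t.2.2⟩
  have hf : Function.Injective f := by
    intro a b hab
    have h1 := tchar_injective hp (congrArg Subtype.val hab)
    exact Subtype.ext (congrArg (fun t : ↥(TT D k) => t.1) h1)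
  exact ⟨Finite.of_injective f hf, hcard ▸ Nat.card_le_card_of_injective f hf⟩

theorem card_T_le [IsAlgClosed k] [Finite W] (hk : LocFin k) {r e : ℕ} [Fact r.Prime] [CharP k r] (he : 0 < e)
    {τ : MulAut ↥(D.group k)}
    (hτ : IsFrob r e τ) {g : (Fin l → ℤ) ≃+ (Fin l → ℤ)} (F : Fr cs hp.isCartan (TT D k) (XX D l k) τ g) :
    Nat.card ↥(TT D k ⊓ fixedSubgroup τ) ≤ (r ^ e + 1) ^ l := by
  obtain ⟨m, hm, hgm⟩ := exists_pow cs hp.isCartan F.root
  exact (card_T_le_det hp cs hk he hτ F).2.trans (det_end_le _ hm hgm _)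

theorem card_T_le_one [IsAlgClosed k] (hk : LocFin k) {r e : ℕ} [Fact r.Prime] [CharP k r] (he : 0 < e)
    {τ : MulAut ↥(D.group k)}
    (hτ : IsFrob r e τ) {g : (Fin l → ℤ) ≃+ (Fin l → ℤ)} (F : Fr cs hp.isCartan (TT D k) (XX D l k) τ g)
    (hg : ∀ x, g x = x) :
    Nat.card ↥(TT D k ⊓ fixedSubgroup τ) ≤ (r ^ e - 1) ^ l := by
  refine (card_T_le_det hp cs hk he hτ F).2.trans (le_of_eq ?_)
  have h1 : en g - ((r ^ e : ℕ) : ℤ) • (1 : Module.End ℤ (Fin l → ℤ)) =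
      (1 - ((r ^ e : ℕ) : ℤ)) • (1 : Module.End ℤ (Fin l → ℤ)) := by
    refine LinearMap.ext fun x => ?_
    show g x - _ = _
    rw [hg, sub_smul, one_smul]
    rfl
  rw [h1, LinearMap.det_smul, map_one, mul_one, Int.natAbs_pow]
  congr 1
  · have h2 : 1 ≤ r ^ e := Nat.one_le_pow _ _ (Fact.out : r.Prime).pos
    omega
  · rw [Module.finrank_fin_fun]

end Tor

end Cfsg.Agent.H166.EP
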