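import Cfsg.Agent.H166.EP.CBound
import Cfsg.Agent.H129.TorusUntw
import Cfsg.Agent.BpExc.RowsUntw
import Cfsg.Agent.BpExc.Sig

/-!
# The centralisers of the elements of prime order of the untwisted groups (helper166, S5745)

* `CD hp cs x ℓ f r e t g N` : `t` is a torus element over the algebraic closure conjugate to `x`, `g` the action of the
  Frobenius on the root lattice (`ch (g a) t = (ch a t)^q`, `g` preserves the positive roots trivial on `t`), and
  `|C_G(x)| ≤ q^m * (N * (|PP t| * (q + 1)^m))`, `m = mS t`, `N ≤ (q + 1)^l`, `N ≤ (q - 1)^l` if `g = 1`;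
* `exists_cd` : it exists.
-/

set_option autoImplicit false
set_option linter.unusedSectionVars false
namespace Cfsg.Agent.H166.EP

open CoxeterSystem Cfsg Cfsg.Lie Cfsg.Lie.ChevalleyDatum
open Cfsg.Agent.ChevalleyStructure Cfsg.Agent.ChevalleyStructure.Elts Cfsg.Agent.ChevalleyStructure.CoxeterGeom
  Cfsg.Agent.ChevalleyStructure.CoxeterGeomTypes Cfsg.Agent.ChevalleyStructure.NPerm
open Cfsg.Agent.Tits.Roots Cfsg.Agent.Tits.Core Cfsg.Agent.Nodes Cfsg.Agent.Nodes.Reps Cfsg.Agent.Nodes.BNOf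
  Cfsg.Agent.Nodes.RGDChev Cfsg.Agent.Nodes.Bruhat Cfsg.Agent.Nodes.NormalForm
open Cfsg.Agent.KFacts.RgdField Cfsg.Agent.KFacts.RgdChevCoord
open Cfsg.Agent.BpExc Cfsg.Agent.BpExc.TorCent Cfsg.Agent.BpExc.TorChev Cfsg.Agent.BpExc.Tow
  Cfsg.Agent.BpExc.TowChev Cfsg.Agent.BpExc.Fr Cfsg.Agent.BpExc.Pair Cfsg.Agent.BpExc.LangFr Cfsg.Agent.GpExc.Field
  Cfsg.Agent.BpExc.NInst Cfsg.Agent.BpExc.NChev Cfsg.Agent.H461.E2.Sup Cfsg.Agent.H461.E2.Fix
  Cfsg.Agent.H461.E2.Cent
open Cfsg.Agent.H378.TorDual Cfsg.Agent.H378.TorChar Cfsg.Agent.H378.TorFin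

universe u

/-! ### The untwisted finite groups -/

section Fin

open Cfsg.Agent.H129.TorusUntw (phi phi_emb isFrob_phi fr_phi)

variable {D : ChevalleyDatum} {l : ℕ} {M : CoxeterMatrix (Fin l)} (hp : IsType D l M)
  {W : Type*} [Group W] [Finite W] (cs : CoxeterSystem M W)

/-- the number of the positive roots trivial on `t` -/
noncomputable def mS {k : Type u} [Field k] (t : ↥(D.group k)) : ℕ := (SP (Sx cs hp.isCartan (ch hp) t)).ncard

/-- The data of an element `x` of prime order `ℓ` of `D.group F`: a torus element `t` conjugate to `x` over the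
algebraic closure, the action `g` of the Frobenius on the roots; and the bound for the centraliser. -/
structure CD {F : Type u} [Field F] [Finite F] (x : ↥(D.group F)) (ℓ : ℕ) {k : Type u} [Field k] [IsAlgClosed k]
    (f : F →+* k) (r e : ℕ) [Fact r.Prime] [CharP k r] (t : ↥(D.group k)) (g : (Fin l → ℤ) ≃+ (Fin l → ℤ))
    (N : ℕ) : Prop where
  locfin : LocFin k
  halg : TorAll.HAlg r k
  card : Nat.card F = r ^ e
  epos : 0 < e
  ne : ℓ ≠ r
  mem : t ∈ TT D k
  conj : ∃ z, z⁻¹ * emb hp.inList f x * z = t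
  pow : t ^ ℓ = 1
  root : ∀ a, IsRoot cs hp.isCartan (g a) ↔ IsRoot cs hp.isCartan a
  chg : ∀ a, IsRoot cs hp.isCartan a → ch hp (g a) t = ch hp a t ^ Nat.card F
  pos : ∀ a ∈ Sx cs hp.isCartan (ch hp) t, 0 ≤ a → 0 ≤ g a
  isP : IsPGroup ℓ ↥(PP cs hp.isCartan (ch hp) t)
  bound : Nat.card ↥(Subgroup.centralizer {x}) ≤ Nat.card F ^ mS hp cs t * (N * (Nat.card
    ↥(PP cs hp.isCartan (ch hp) t) * (Nat.card F + 1) ^ mS hp cs t))
  le : N ≤ (Nat.card F + 1) ^ l
  le_one : (∀ y, g y = y) → N ≤ (Nat.card F - 1) ^ l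

/-- **The centralisers of the elements of prime order.** -/
theorem exists_cd {F : Type u} [Field F] [Finite F] {ℓ : ℕ} (hℓ : ℓ.Prime) (hℓF : (ℓ : F) ≠ 0)
    (x : ↥(D.group F)) (hx : x ^ ℓ = 1) :
    ∃ (k : Type u) (_ : Field k) (_ : IsAlgClosed k) (f : F →+* k) (r e : ℕ) (_ : Fact r.Prime) (_ : CharP k r)
      (t : ↥(D.group k)) (g : (Fin l → ℤ) ≃+ (Fin l → ℤ)) (N : ℕ), CD hp cs x ℓ f r e t g N := by
  have := Fintype.ofFinite F
  obtain ⟨k, _, _, f, r, _, _, e, hk, hA, he, hF⟩ := exists_closure F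
  have hℓr : ℓ ≠ r := by
    rintro rfl
    apply hℓF
    apply f.injective
    rw [map_natCast, map_zero, CharP.cast_eq_zero]
  have hq : Fintype.card F = r ^ e := by rw [← Nat.card_eq_fintype_card]; exact hF
  have hxe : (emb hp.inList f x) ^ ℓ = 1 := by rw [← map_pow, hx, map_one]
  obtain ⟨z, hz⟩ := TorAll.exists_toral hp r hA hℓ hℓr hxe
  set t := z⁻¹ * emb hp.inList f x * z with ht
  have htℓ : t ^ ℓ = 1 := by
    have e1 : t = z⁻¹ * emb hp.inList f x * z⁻¹⁻¹ := by rw [inv_inv]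
    rw [e1, conj_pow, hxe, mul_one, inv_inv, inv_mul_cancel]
  have hfix : phi D k r e (emb hp.inList f x) = emb hp.inList f x := phi_emb hp f hq x
  obtain ⟨τ, g, h1, h2, h3, h4, ⟨E⟩⟩ := exists_pair' hp cs hk he (isFrob_phi (D := D) (k := k) (p := r) (e := e))
    (fr_phi hp cs) hfix (z := z) (t := t) rfl hz
  have hfin : Finite ↥(fixC (phi D k r e) (emb hp.inList f x)) := by
    have := Sig.finite_fixed hk he (isFrob_phi (D := D) (k := k) (p := r) (e := e))
    exact Finite.of_injective (fun y : ↥(fixC (phi D k r e) (emb hp.inList f x)) =>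
      (⟨y.1, (mem_fixC.1 y.2).1⟩ : ↥(fixedSubgroup (phi D k r e))))
      (fun a b hab => Subtype.ext (congrArg (fun w : ↥(fixedSubgroup (phi D k r e)) => (w : ↥(D.group k))) hab))
  have hfin' : Finite ↥(fixC τ t) := Finite.of_equiv _ E.symm.toEquiv
  obtain ⟨hTf, hTd⟩ := card_T_le_det hp cs hk he h1 h2
  have hb := card_fixC_le hp cs hk hz he h1 h2 h3 h4
  refine ⟨k, inferInstance, inferInstance, f, r, e, inferInstance, inferInstance, t, g,
    Nat.card ↥(TT D k ⊓ fixedSubgroup τ), hk, hA, hF, he, hℓr, hz, ⟨z, rfl⟩, htℓ, h2.root, ?_, h4, ?_, ?_, ?_, ?_⟩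
  · intro a ha
    rw [hF, ← ch_fr hp cs hk h1 h2 hz ha, h3]
  · refine isPGroup_PP (T := TT D k) (chAddL hp cs hk r) hz hℓ fun a ha => ?_
    have h5 := tchar_apply hp cs hk r ⟨t, hz⟩ ha
    have h6 : (⟨t, hz⟩ : ↥(TT D k)) ^ ℓ = 1 := Subtype.ext htℓ
    rw [← h5, ← Units.val_pow_eq_pow_val, ← MonoidHom.pow_apply, ← map_pow, h6, map_one]
    rfl
  · have h5 : Nat.card ↥(Subgroup.centralizer {x}) ≤ Nat.card ↥(fixC τ t) := by
      rw [Nat.card_congr E.toEquiv]
      let Φ : ↥(Subgroup.centralizer {x}) → ↥(fixC (phi D k r e) (emb hp.inList f x)) := fun y =>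
        ⟨emb hp.inList f y.1, mem_fixC.2 ⟨phi_emb hp f hq _, by
          rw [← map_mul, ← map_mul, Subgroup.mem_centralizer_singleton_iff.1 y.2]⟩⟩
      refine Nat.card_le_card_of_injective Φ fun a b hab => ?_
      apply Subtype.ext
      apply emb_injective hp.inList f
      exact congrArg (fun w : ↥(fixC (phi D k r e) (emb hp.inList f x)) => (w : ↥(D.group k))) hab
    rw [hF]
    exact h5.trans hb
  · rw [hF]
    exact card_T_le hp cs hk he h1 h2
  · intro hg
    rw [hF]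
    exact card_T_le_one hp cs hk he h1 h2 hg

end Fin

end Cfsg.Agent.H166.EP
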