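import Cfsg.Agent.H952.F4.TabNum

/-!
# The number of the roots of `F₄` vanishing on a vector modulo `13` (helper166, S5745)

`chk13_all` : for the vectors modulo `13` whose first nonzero coordinate is `1`.
-/

set_option autoImplicit false

namespace Cfsg.Agent.H166.EP.F4Tab13

open Cfsg.Agent.H952.F4.TabNum

/-- at most `18` roots vanish; at most `6` if the multiplicities of `j` and `3 j` are equal -/
def chk13 (a b c d : ℕ) : Bool :=
  Nat.ble (nn rowsL 13 0 a b c d) 6 || (Nat.ble (nn rowsL 13 0 a b c d) 18 && (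
    !(Nat.beq (nn rowsL 13 1 a b c d) (nn rowsL 13 3 a b c d)) ||
    !(Nat.beq (nn rowsL 13 3 a b c d) (nn rowsL 13 9 a b c d)) ||
    !(Nat.beq (nn rowsL 13 2 a b c d) (nn rowsL 13 6 a b c d)) ||
    !(Nat.beq (nn rowsL 13 6 a b c d) (nn rowsL 13 5 a b c d))))

theorem sl1 : allLT (fun b => allLT (fun c => allLT (chk13 1 b c) 13) 13) 13 = true := by decide +kernel

theorem sl2 : allLT (fun c => allLT (chk13 0 1 c) 13) 13 = true := by decide +kernel

theorem sl3 : allLT (chk13 0 0 1) 13 = true := by decide +kernel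

theorem sl4 : chk13 0 0 0 1 = true := by decide +kernel

/-- the first nonzero coordinate is `1` -/
def Nz (a : Fin 4 → ℕ) : Prop :=
  a 0 = 1 ∨ (a 0 = 0 ∧ (a 1 = 1 ∨ (a 1 = 0 ∧ (a 2 = 1 ∨ (a 2 = 0 ∧ a 3 = 1)))))

theorem chk13_all {a : Fin 4 → ℕ} (h : Nz a) (ha : ∀ i, a i < 13) : chk13 (a 0) (a 1) (a 2) (a 3) = true := by
  rcases h with h0 | ⟨h0, h1 | ⟨h1, h2 | ⟨h2, h3⟩⟩⟩
  · rw [h0]
    exact allLT_spec (allLT_spec (allLT_spec sl1 _ (ha 1)) _ (ha 2)) _ (ha 3)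
  · rw [h0, h1]
    exact allLT_spec (allLT_spec sl2 _ (ha 2)) _ (ha 3)
  · rw [h0, h1, h2]
    exact allLT_spec sl3 _ (ha 3)
  · rw [h0, h1, h2, h3]
    exact sl4

end Cfsg.Agent.H166.EP.F4Tab13
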