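import Cfsg.Agent.H166.EP.CData
import Cfsg.Agent.H166.EP.F4Rig
import Cfsg.Agent.H166.EP.F4Tab13
import Cfsg.Agent.H952.F4.Tab
import Cfsg.Agent.S1092


/-!
# The centralisers of the elements of order 2, 3, 7, 13 of `F₄(q)` (helper166, S5745)

* `cent_two` : involutions, `q` odd: `|C| ≤ q^m (q - 1)^4 (q + 1)^m`, `m = 10` (fixed space of dimension 15 on the module
  `J` of dimension 27) or `m = 16` (dimension 11);
* `cent_three`, `cent_seven`, `cent_thirteen`.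
-/

set_option autoImplicit false
set_option linter.unusedSectionVars false
namespace Cfsg.Agent.H166.EP

open CoxeterSystem Cfsg Cfsg.Lie Cfsg.Lie.ChevalleyDatum
open Cfsg.Agent.ChevalleyStructure Cfsg.Agent.ChevalleyStructure.Elts Cfsg.Agent.ChevalleyStructure.CoxeterGeom
  Cfsg.Agent.ChevalleyStructure.CoxeterGeomTypes Cfsg.Agent.ChevalleyStructure.NPerm
open Cfsg.Agent.Tits.Roots Cfsg.Agent.Tits.Core Cfsg.Agent.Nodes Cfsg.Agent.Nodes.Reps Cfsg.Agent.Nodes.BNOf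
  Cfsg.Agent.Nodes.RGDChev Cfsg.Agent.Nodes.Bruhat Cfsg.Agent.Nodes.NormalForm
open Cfsg.Agent.KFacts.RgdField Cfsg.Agent.KFacts.RgdChevCoord
open Cfsg.Agent.BpExc Cfsg.Agent.BpExc.TorCent Cfsg.Agent.BpExc.TorChev Cfsg.Agent.BpExc.Tow
  Cfsg.Agent.BpExc.TowChev Cfsg.Agent.BpExc.Fr Cfsg.Agent.BpExc.Pair Cfsg.Agent.BpExc.LangFr Cfsg.Agent.GpExc.Field
  Cfsg.Agent.BpExc.NInst Cfsg.Agent.BpExc.NChev Cfsg.Agent.H461.E2.Sup Cfsg.Agent.H461.E2.Fix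
  Cfsg.Agent.H461.E2.Cent
open Cfsg.Agent.H378.TorDual Cfsg.Agent.H378.TorChar Cfsg.Agent.H378.TorFin

universe u

section General

variable {D : ChevalleyDatum} {l : ℕ} {M : CoxeterMatrix (Fin l)} (hp : IsType D l M) {k : Type u} [Field k]
  {W : Type*} [Group W] (cs : CoxeterSystem M W)

/-- **The matrix of a torus element.** -/
theorem tmat {t : ↥(D.group k)} (ht : t ∈ TT D k) :
    (((t : ↥(D.group k)) : GL D.Idx k) : Matrix D.Idx D.Idx k) =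
      Matrix.diagonal (Sum.elim (fun _ => (1 : k)) (fun s : Fin D.nroots => ch hp (vec D l s) t)) := by
  obtain ⟨c, hc, e, hact⟩ := exists_c hp (t := (t : GL D.Idx k)) ht
  rw [e]
  congr 1
  funext i
  rcases i with i | s
  · rfl
  · show _ = ch hp (vec D l s) t
    symm
    apply ch_eq hp s.2 ht
    apply Subtype.ext
    have h := hact s s.2 1
    rw [mul_one] at h
    rw [Subgroup.coe_mul, Subgroup.coe_mul, Subgroup.coe_inv, coe_xc hp s.2, coe_xc hp s.2]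
    exact h

open Classical in
/-- the number of the roots with the value `μ` -/
noncomputable def nT (t : ↥(D.group k)) (μ : k) : ℕ :=
  (Finset.univ.filter fun s : Fin D.nroots => ch hp (vec D l s) t = μ).card

variable (hinj : ∀ s s' : Fin D.nroots, vec D l s = vec D l s' → s = s')

include hinj in
theorem ncard_eq_nT (t : ↥(D.group k)) :
    (Sx cs hp.isCartan (ch hp) t).ncard = nT hp t 1 := by
  classical
  unfold nT
  have h1 : Sx cs hp.isCartan (ch hp) t =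
      (fun s : Fin D.nroots => vec D l s) '' {s | ch hp (vec D l s) t = 1} := by
    ext a
    constructor
    · rintro ⟨ha, hb⟩
      obtain ⟨r, hr, rfl⟩ := (isRoot_iff hp cs a).1 ha
      exact ⟨⟨r, hr⟩, hb, rfl⟩
    · rintro ⟨s, hs, rfl⟩
      exact ⟨(isRoot_iff hp cs _).2 ⟨s, s.2, rfl⟩, hs⟩
  rw [h1, Set.ncard_image_of_injective _ (fun a b hab => hinj a b hab), ← Set.ncard_coe_finset]
  congr 1
  ext s
  simp

include cs hinj in
/-- **The Frobenius condition.** -/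
theorem nT_le {t : ↥(D.group k)} {g : (Fin l → ℤ) ≃+ (Fin l → ℤ)} {q : ℕ}
    (hroot : ∀ a, IsRoot cs hp.isCartan (g a) ↔ IsRoot cs hp.isCartan a)
    (hchg : ∀ a, IsRoot cs hp.isCartan a → ch hp (g a) t = ch hp a t ^ q) (μ : k) : nT hp t μ ≤ nT hp t (μ ^ q) := by
  classical
  unfold nT
  have h1 : ∀ s : Fin D.nroots, ∃ s' : Fin D.nroots, vec D l s' = g (vec D l s) := by
    intro s
    obtain ⟨r, hr, h⟩ := (isRoot_iff hp cs _).1 ((hroot (vec D l s)).2 ((isRoot_iff hp cs _).2 ⟨s, s.2, rfl⟩))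
    exact ⟨⟨r, hr⟩, h⟩
  choose f hf using h1
  refine Finset.card_le_card_of_injOn f ?_ ?_
  · intro s hs
    have hs' : ch hp (vec D l s) t = μ := by simpa using hs
    have h2 : ch hp (vec D l (f s)) t = μ ^ q := by
      rw [hf, hchg _ ((isRoot_iff hp cs _).2 ⟨s, s.2, rfl⟩), hs']
    simpa using h2
  · intro s _ s' _ h
    have h2 := hf s
    rw [h, hf s'] at h2
    exact hinj s s' (g.injective h2).symm

end General

section F4

open Cfsg.Agent.H952.F4 Cfsg.Agent.H952.F4.TabMult Cfsg.Agent.H952.F4.TabNum Cfsg.Agent.H952.F4.TabLin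
open Cfsg.Agent.ChevalleyStructure.RootVecTab Cfsg.Agent.ChevalleyStructure.RootVec

theorem rowsL_inj : ∀ s s' : Fin 48, rowsL.getD s (8, 8, 8, 8) = rowsL.getD s' (8, 8, 8, 8) → s = s' := by
  decide +kernel

theorem vec_F4 (s : Fin chevF4.nroots) : vec chevF4 4 s =
    ![((rowsL.getD s (8, 8, 8, 8)).1 : ℤ) - 8, ((rowsL.getD s (8, 8, 8, 8)).2.1 : ℤ) - 8,
      ((rowsL.getD s (8, 8, 8, 8)).2.2.1 : ℤ) - 8, ((rowsL.getD s (8, 8, 8, 8)).2.2.2 : ℤ) - 8] := by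
  have h0 : ∀ i : Fin 4, vec chevF4 4 s i = (dig (RootVecTab.code chevF4 s) (3 - i) : ℤ) - 8 := by
    intro i
    rw [vec_apply, rt_of_lt (D := chevF4) (show (s : ℕ) < chevF4.nroots from s.2)
      (show (i : ℕ) < chevF4.rank from i.2)]
    rfl
  have h1 := rowsL_spec ⟨s, s.2⟩
  simp only at h1
  rw [h1]
  funext i
  rw [h0]
  fin_cases i <;> rfl

theorem hinj4 (s s' : Fin chevF4.nroots) (h : vec chevF4 4 s = vec chevF4 4 s') : s = s' := by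
  rw [vec_F4, vec_F4] at h
  have h0 := congrFun h 0
  have h1 := congrFun h 1
  have h2 := congrFun h 2
  have h3 := congrFun h 3
  simp only [Matrix.cons_val_zero, Matrix.cons_val_one, Matrix.cons_val] at h0 h1 h2 h3
  have h4 := rowsL_inj ⟨s, s.2⟩ ⟨s', s'.2⟩ (by
    simp only
    refine Prod.ext ?_ (Prod.ext ?_ (Prod.ext ?_ ?_))
    · omega
    · omega
    · omega
    · omega)
  exact Fin.ext (Fin.mk.inj_iff.1 h4)


section t

variable {k : Type u} [Field k] [DecidableEq k]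

theorem evL_t {t : ↥(chevF4.group k)} (ht : t ∈ TT chevF4 k) (μ : k) :
    ev (LK k t) μ = (if μ = 1 then 4 else 0) + nT hpF4 t μ := by
  classical
  have h1 : LK k t = Matrix.toLin' (Matrix.diagonal (Sum.elim (fun _ => (1 : k))
      (fun s : Fin chevF4.nroots => ch hpF4 (vec chevF4 4 s) t))) := by
    rw [← tmat hpF4 ht]
    rfl
  rw [ev_diag _ μ h1, Finset.card_filter, Fintype.sum_sum_type, ← Finset.card_filter, ← Finset.card_filter]
  congr 1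
  · show (Finset.univ.filter fun i : Fin chevF4.rank => (1 : k) = μ).card = _
    by_cases hμ : μ = 1
    · rw [if_pos hμ, Finset.filter_true_of_mem fun _ _ => hμ.symm, Finset.card_univ, Fintype.card_fin]
      rfl
    · rw [if_neg hμ, Finset.filter_false_of_mem fun _ _ h => hμ h.symm, Finset.card_empty]
  · unfold nT
    congr!

end t

theorem z4_of_nz {a : Fin 4 → ℕ} (h : F4Tab13.Nz a) : z4 (a 0) (a 1) (a 2) (a 3) = false := by
  rw [Bool.eq_false_iff]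
  intro h0
  rw [z4_iff] at h0
  unfold F4Tab13.Nz at h
  omega

section cd

variable {W : Type*} [Group W] [Finite W] (cs : CoxeterSystem CoxeterMatrix.F₄ W) {F : Type u} [Field F] [Finite F]
  {x : ↥(chevF4.group F)} {ℓ : ℕ} {k : Type u} [Field k] [IsAlgClosed k] {f : F →+* k} {r e : ℕ} [Fact r.Prime]
  [CharP k r] {t : ↥(chevF4.group k)} {g : (Fin 4 → ℤ) ≃+ (Fin 4 → ℤ)} {N : ℕ}
  (C : CD hpF4 cs x ℓ f r e t g N)

include C

theorem two_mS : 2 * mS hpF4 cs t = nT hpF4 t 1 := by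
  rw [← ncard_eq_nT hpF4 cs hinj4 t]
  exact (ncard_Sx hpF4 cs (r := r) C.locfin C.mem).symm

theorem evL_x : ev (LK F x) 1 = 4 + 2 * mS hpF4 cs t := by
  classical
  obtain ⟨z, hz⟩ := C.conj
  have h1 : ev (LK k t) 1 = ev (LK k (emb hF4 f x)) 1 := by
    have h2 : t = z⁻¹ * emb hF4 f x * z⁻¹⁻¹ := by rw [inv_inv]; exact hz.symm
    rw [h2]
    exact ev_conj (LK k) _ _ _
  have h3 := Chg.ev_L f x (1 : F)
  rw [map_one] at h3
  rw [← h3, ← h1, evL_t C.mem, if_pos rfl, two_mS cs C]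

theorem charF : CharP F r := (RingHom.charP_iff f f.injective r).2 inferInstance

/-- **The table for the involutions.** -/
theorem mS_two (hℓ : ℓ = 2) (hx1 : x ≠ 1) (hx : x * x = 1) {ρ : ↥(chevF4.group F) →* GL I27 F} (hρ : IsJ ρ) :
    (mS hpF4 cs t = 10 ∧ ev (JK ρ x) 1 = 15) ∨ (mS hpF4 cs t = 16 ∧ ev (JK ρ x) 1 = 11) := by
  have := charF cs C
  have T := Tor.tab_finite r hρ
  have hr : r ≠ 2 := fun h => C.ne (by rw [h, hℓ])
  have h1 := evL_x cs C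
  rcases T.two hr x hx1 hx with ⟨h2, h3, -⟩ | ⟨h2, h3, -⟩
  · left
    exact ⟨by omega, h2⟩
  · right
    exact ⟨by omega, h2⟩

theorem mS_three (hℓ : ℓ = 3) (hx1 : x ≠ 1) (hx : x ^ 3 = 1) : mS hpF4 cs t ≤ 9 := by
  have := charF cs C
  obtain ⟨ρ, hρ⟩ := JMod.exists_isJ F
  have T := Tor.tab_finite r hρ
  have hr : r ≠ 3 := fun h => C.ne (by rw [h, hℓ])
  have h1 := evL_x cs C
  rcases T.three hr x hx1 hx with ⟨-, h3, -⟩ | ⟨-, h3, -⟩ | ⟨-, h3, -⟩ <;> omega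

/-- the multiplicities -/
theorem exists_nn (hℓ : ℓ.Prime) (hx1 : x ≠ 1) : ∃ (ζ : k) (a : Fin 4 → ℕ), IsPrimitiveRoot ζ ℓ ∧ (∀ i, a i < ℓ) ∧
    F4Tab13.Nz a ∧ (∀ i, ch hpF4 (sr i) t = ζ ^ a i) ∧
    ∀ j, nT hpF4 t (ζ ^ j) = nn rowsL ℓ j (a 0) (a 1) (a 2) (a 3) := by
  classical
  have : NeZero ℓ := ⟨hℓ.ne_zero⟩
  have : Fact ℓ.Prime := ⟨hℓ⟩
  let c : Fin 4 → kˣ := fun i => tchar hpF4 ⟨t, C.mem⟩ (Multiplicative.ofAdd (sr i))
  have hcℓ : ∀ i, c i ^ ℓ = 1 := by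
    intro i
    have h6 : (⟨t, C.mem⟩ : ↥(TT chevF4 k)) ^ ℓ = 1 := Subtype.ext C.pow
    show (tchar hpF4 ⟨t, C.mem⟩ (Multiplicative.ofAdd (sr i))) ^ ℓ = 1
    rw [← MonoidHom.pow_apply, ← map_pow, h6, map_one]
    rfl
  have hne : ∃ i, c i ≠ 1 := by
    by_contra hcon
    push Not at hcon
    have h1 : tchar hpF4 (⟨t, C.mem⟩ : ↥(TT chevF4 k)) = 1 := ext_sr fun i => hcon i
    have h2 := tchar_injective hpF4 (h1.trans (map_one _).symm)
    have h3 : t = 1 := congrArg (fun y : ↥(TT chevF4 k) => y.1) h2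
    obtain ⟨z, hz⟩ := C.conj
    rw [h3] at hz
    apply hx1
    apply emb_injective hpF4.inList f
    have h4 : emb hpF4.inList f x = z * (z⁻¹ * emb hpF4.inList f x * z) * z⁻¹ := by group
    rw [map_one, h4, hz]
    group
  -- the first non-trivial value
  have key : ∀ i0 : Fin 4, c i0 ≠ 1 → ∃ (ζ : k) (a : Fin 4 → ℕ), IsPrimitiveRoot ζ ℓ ∧ (∀ i, a i < ℓ) ∧
      a i0 = 1 ∧ (∀ i, c i = 1 → a i = 0) ∧ (∀ i, ch hpF4 (sr i) t = ζ ^ a i) ∧
      ∀ j, nT hpF4 t (ζ ^ j) = nn rowsL ℓ j (a 0) (a 1) (a 2) (a 3) := by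
    intro i0 h0
    have hz : orderOf (c i0) = ℓ := orderOf_eq_prime (hcℓ i0) h0
    have hζ : IsPrimitiveRoot (c i0) ℓ := by rw [← hz]; exact IsPrimitiveRoot.orderOf _
    have hζ' : IsPrimitiveRoot ((c i0 : kˣ) : k) ℓ := IsPrimitiveRoot.coe_units_iff.2 hζ
    have hex : ∀ i, ∃ a < ℓ, c i0 ^ a = c i := by
      intro i
      have h1 : ((c i : kˣ) : k) ^ ℓ = 1 := by rw [← Units.val_pow_eq_pow_val, hcℓ i, Units.val_one]
      obtain ⟨a, ha', ha⟩ := hζ'.eq_pow_of_pow_eq_one h1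
      exact ⟨a, ha', Units.ext (by rw [Units.val_pow_eq_pow_val, ha])⟩
    choose a ha' ha using hex
    refine ⟨(c i0 : kˣ), a, hζ', ha', ?_, ?_, ?_, ?_⟩
    · exact hζ.pow_inj (ha' i0) hℓ.one_lt (by rw [ha, pow_one])
    · intro i hi
      exact hζ.pow_inj (ha' i) hℓ.pos (by rw [ha, hi, pow_zero])
    · intro i
      rw [← Units.val_pow_eq_pow_val, ha]
      exact (tchar_sr hpF4 ⟨t, C.mem⟩ i).symm
    · intro j
      rw [← card_L hz a j, ← Units.val_pow_eq_pow_val]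
      unfold nT
      refine congrArg Finset.card (Finset.filter_congr fun s _ => ?_)
      have h1 := tchar_apply hpF4 cs C.locfin r ⟨t, C.mem⟩ ((isRoot_iff hpF4 cs _).2 ⟨s, s.2, rfl⟩)
      have h2 : tchar hpF4 ⟨t, C.mem⟩ (Multiplicative.ofAdd (vec chevF4 4 s)) =
          val (c i0) a (rowsL.getD s (8, 8, 8, 8)) := by
        rw [← prod_eq_val ha s s.2, eq_lat (tchar hpF4 ⟨t, C.mem⟩), lat_apply]
      rw [← h2, h1]
  by_cases h0 : c 0 = 1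
  · by_cases h1 : c 1 = 1
    · by_cases h2 : c 2 = 1
      · have h3 : c 3 ≠ 1 := by
          obtain ⟨i, hi⟩ := hne
          fin_cases i
          · exact absurd h0 hi
          · exact absurd h1 hi
          · exact absurd h2 hi
          · exact hi
        obtain ⟨ζ, a, g1, g2, g3, g4, g5, g6⟩ := key 3 h3
        exact ⟨ζ, a, g1, g2, Or.inr ⟨g4 0 h0, Or.inr ⟨g4 1 h1, Or.inr ⟨g4 2 h2, g3⟩⟩⟩, g5, g6⟩
      · obtain ⟨ζ, a, g1, g2, g3, g4, g5, g6⟩ := key 2 h2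
        exact ⟨ζ, a, g1, g2, Or.inr ⟨g4 0 h0, Or.inr ⟨g4 1 h1, Or.inl g3⟩⟩, g5, g6⟩
    · obtain ⟨ζ, a, g1, g2, g3, g4, g5, g6⟩ := key 1 h1
      exact ⟨ζ, a, g1, g2, Or.inr ⟨g4 0 h0, Or.inl g3⟩, g5, g6⟩
  · obtain ⟨ζ, a, g1, g2, g3, g4, g5, g6⟩ := key 0 h0
    exact ⟨ζ, a, g1, g2, Or.inl g3, g5, g6⟩

theorem nn_le {ζ : k} {a : Fin 4 → ℕ} (hζ : IsPrimitiveRoot ζ ℓ)
    (hn : ∀ j, nT hpF4 t (ζ ^ j) = nn rowsL ℓ j (a 0) (a 1) (a 2) (a 3)) {i j : ℕ}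
    (hij : i * Nat.card F % ℓ = j % ℓ) :
    nn rowsL ℓ i (a 0) (a 1) (a 2) (a 3) ≤ nn rowsL ℓ j (a 0) (a 1) (a 2) (a 3) := by
  have h1 := nT_le hpF4 cs hinj4 C.root C.chg (ζ ^ i)
  rw [← pow_mul] at h1
  have h2 : ζ ^ (i * Nat.card F) = ζ ^ j := by
    rw [← pow_mod_orderOf ζ (i * Nat.card F), ← pow_mod_orderOf ζ j, ← hζ.eq_orderOf, hij]
  rw [h2, hn, hn] at h1
  exact h1

/-- **Elements of order `7`**, `q` primitive modulo `7`. -/
theorem mS_seven (hℓ : ℓ = 7) (hx1 : x ≠ 1) (hq : Nat.card F % 7 = 3 ∨ Nat.card F % 7 = 5) :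
    mS hpF4 cs t = 3 := by
  subst hℓ
  obtain ⟨ζ, a, hζ, ha, h0, -, hn⟩ := exists_nn cs C (by norm_num) hx1
  have h0 := z4_of_nz h0
  have h1 := all4_spec chk7r_all (ha 0) (ha 1) (ha 2) (ha 3)
  have hle : ∀ i j : ℕ, i * Nat.card F % 7 = j % 7 →
      nn rowsL 7 i (a 0) (a 1) (a 2) (a 3) ≤ nn rowsL 7 j (a 0) (a 1) (a 2) (a 3) := fun i j => nn_le cs C hζ hn
  have h2 : nn rowsL 7 1 (a 0) (a 1) (a 2) (a 3) = nn rowsL 7 2 (a 0) (a 1) (a 2) (a 3) ∧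
      nn rowsL 7 2 (a 0) (a 1) (a 2) (a 3) = nn rowsL 7 4 (a 0) (a 1) (a 2) (a 3) := by
    rcases hq with hq | hq
    · have e1 := hle 1 3 (by omega)
      have e2 := hle 3 2 (by omega)
      have e3 := hle 2 6 (by omega)
      have e4 := hle 6 4 (by omega)
      have e5 := hle 4 5 (by omega)
      have e6 := hle 5 1 (by omega)
      omega
    · have e1 := hle 1 5 (by omega)
      have e2 := hle 5 4 (by omega)
      have e3 := hle 4 6 (by omega)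
      have e4 := hle 6 2 (by omega)
      have e5 := hle 2 3 (by omega)
      have e6 := hle 3 1 (by omega)
      omega
  have h3 : nn rowsL 7 0 (a 0) (a 1) (a 2) (a 3) = 6 := by
    unfold chk7r at h1
    rw [h0, h2.1, h2.2, Nat.beq_refl] at h1
    simp only [Bool.false_or, Bool.not_true, Bool.and_eq_true, Nat.beq_eq] at h1
    exact h1.1.1.1.1.1.1.1
  have h4 := hn 0
  rw [pow_zero, ← two_mS cs C, h3] at h4
  omega

/-- **Elements of order `13`.** -/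
theorem mS_thirteen (hℓ : ℓ = 13) (hx1 : x ≠ 1) :
    mS hpF4 cs t ≤ 9 ∧ (Nat.card F % 13 = 3 → mS hpF4 cs t ≤ 3) := by
  subst hℓ
  obtain ⟨ζ, a, hζ, ha, h0, -, hn⟩ := exists_nn cs C (by norm_num) hx1
  have h1 := F4Tab13.chk13_all h0 ha
  have h4 := hn 0
  rw [pow_zero, ← two_mS cs C] at h4
  unfold F4Tab13.chk13 at h1
  rw [← h4, Bool.or_eq_true, Bool.and_eq_true, Nat.ble_eq, Nat.ble_eq] at h1
  rcases h1 with h5 | ⟨h5, h6⟩
  · exact ⟨by omega, fun _ => by omega⟩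
  refine ⟨by omega, fun hq => ?_⟩
  exfalso
  have hle : ∀ i j : ℕ, i * Nat.card F % 13 = j % 13 →
      nn rowsL 13 i (a 0) (a 1) (a 2) (a 3) ≤ nn rowsL 13 j (a 0) (a 1) (a 2) (a 3) := fun i j => nn_le cs C hζ hn
  have e1 := hle 1 3 (by omega)
  have e2 := hle 3 9 (by omega)
  have e3 := hle 9 1 (by omega)
  have e4 := hle 2 6 (by omega)
  have e5 := hle 6 5 (by omega)
  have e6 := hle 5 2 (by omega)
  rw [show nn rowsL 13 3 (a 0) (a 1) (a 2) (a 3) = nn rowsL 13 1 (a 0) (a 1) (a 2) (a 3) by omega,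
    show nn rowsL 13 9 (a 0) (a 1) (a 2) (a 3) = nn rowsL 13 1 (a 0) (a 1) (a 2) (a 3) by omega,
    show nn rowsL 13 5 (a 0) (a 1) (a 2) (a 3) = nn rowsL 13 2 (a 0) (a 1) (a 2) (a 3) by omega,
    show nn rowsL 13 6 (a 0) (a 1) (a 2) (a 3) = nn rowsL 13 2 (a 0) (a 1) (a 2) (a 3) by omega, Nat.beq_refl,
    Nat.beq_refl] at h6
  simp at h6

end cd

/-! #### involutions -/

theorem root_code : ∀ s : Fin 48, 8 ≤ (rowsL.getD s (8, 8, 8, 8)).1 → 8 ≤ (rowsL.getD s (8, 8, 8, 8)).2.1 →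
    8 ≤ (rowsL.getD s (8, 8, 8, 8)).2.2.1 → 8 ≤ (rowsL.getD s (8, 8, 8, 8)).2.2.2 →
    ∃ n ∈ F4Rig.posC, (rowsL.getD s (8, 8, 8, 8)) = (n % 16 + 8, n / 16 % 16 + 8, n / 256 % 16 + 8,
      n / 4096 % 16 + 8) := by decide +kernel

theorem code_root : ∀ n ∈ F4Rig.posC, ∃ s : Fin 48, (rowsL.getD s (8, 8, 8, 8)) = (n % 16 + 8, n / 16 % 16 + 8,
    n / 256 % 16 + 8, n / 4096 % 16 + 8) := by decide +kernel


section inv

variable {W : Type*} [Group W] [Finite W] (cs : CoxeterSystem CoxeterMatrix.F₄ W)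

theorem dec_vec {n : ℕ} {s : Fin 48} (h : (rowsL.getD s (8, 8, 8, 8)) = (n % 16 + 8, n / 16 % 16 + 8,
    n / 256 % 16 + 8, n / 4096 % 16 + 8)) : vec chevF4 4 s = F4Rig.dec n := by
  rw [vec_F4 s]
  show _ = (![_, _, _, _] : Fin 4 → ℤ)
  rw [h]
  funext i
  fin_cases i
  · show (((n % 16 + 8 : ℕ) : ℤ) - 8) = ((n % 16 : ℕ) : ℤ)
    push_cast; ring
  · show (((n / 16 % 16 + 8 : ℕ) : ℤ) - 8) = ((n / 16 % 16 : ℕ) : ℤ)
    push_cast; ring
  · show (((n / 256 % 16 + 8 : ℕ) : ℤ) - 8) = ((n / 256 % 16 : ℕ) : ℤ)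
    push_cast; ring
  · show (((n / 4096 % 16 + 8 : ℕ) : ℤ) - 8) = ((n / 4096 % 16 : ℕ) : ℤ)
    push_cast; ring

/-- **The positive roots.** -/
theorem pos_iff (b : Fin 4 → ℤ) : (IsRoot cs hpF4.isCartan b ∧ 0 ≤ b) ↔ ∃ n ∈ F4Rig.posC, b = F4Rig.dec n := by
  constructor
  · rintro ⟨hb, h0⟩
    obtain ⟨s, hs, rfl⟩ := (isRoot_iff hpF4 cs b).1 hb
    have h1 := vec_F4 ⟨s, hs⟩
    have e0 := h0 0
    have e1 := h0 1
    have e2 := h0 2
    have e3 := h0 3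
    change 0 ≤ vec chevF4 4 s 0 at e0
    change 0 ≤ vec chevF4 4 s 1 at e1
    change 0 ≤ vec chevF4 4 s 2 at e2
    change 0 ≤ vec chevF4 4 s 3 at e3
    have h1' : vec chevF4 4 s = _ := h1
    rw [h1'] at e0 e1 e2 e3
    simp only [Matrix.cons_val_zero, Matrix.cons_val_one, Matrix.cons_val] at e0 e1 e2 e3
    obtain ⟨n, hn, h2⟩ := root_code ⟨s, hs⟩ (by simp only; omega) (by simp only; omega) (by simp only; omega)
      (by simp only; omega)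
    exact ⟨n, hn, dec_vec h2⟩
  · rintro ⟨n, hn, rfl⟩
    obtain ⟨s, hs⟩ := code_root n hn
    refine ⟨(isRoot_iff hpF4 cs _).2 ⟨s, s.2, dec_vec hs⟩, fun i => ?_⟩
    fin_cases i
    · exact Int.natCast_nonneg _
    · exact Int.natCast_nonneg _
    · exact Int.natCast_nonneg _
    · exact Int.natCast_nonneg _

theorem rep_faithful {I W' : Type*} [Fintype I] [DecidableEq I] [Group W'] {M : CoxeterMatrix I}
    (cs' : CoxeterSystem M W') {A : I → I → ℤ} (h : IsCartan M A) {w : W'} (hw : ∀ y, rep cs' h w y = y) : w = 1 := by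
  by_contra hw1
  obtain ⟨i, hi⟩ := cs'.exists_rightDescent_of_ne_one hw1
  have h1 : rep cs' h w (sr i) ≤ 0 := nonpos_of_lt cs' h _ i hi
  rw [hw] at h1
  exact sr_ne_zero i (le_antisymm h1 (sr_nonneg i))

variable {F : Type u} [Field F] [Finite F]
  {x : ↥(chevF4.group F)} {k : Type u} [Field k] [IsAlgClosed k] {f : F →+* k} {r e : ℕ} [Fact r.Prime]
  [CharP k r] {t : ↥(chevF4.group k)} {g : (Fin 4 → ℤ) ≃+ (Fin 4 → ℤ)} {N : ℕ}
  (C : CD hpF4 cs x 2 f r e t g N)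

include C

theorem mem_iff_par {ζ : k} {a : Fin 4 → ℕ} (hζ : IsPrimitiveRoot ζ 2) (hs : ∀ i, ch hpF4 (sr i) t = ζ ^ a i)
    {n : ℕ} (hn : n ∈ F4Rig.posC) :
    F4Rig.dec n ∈ Sx cs hpF4.isCartan (ch hpF4) t ↔ n ∈ F4Rig.Lc (a 0) (a 1) (a 2) (a 3) := by
  have hr := ((pos_iff cs _).2 ⟨n, hn, rfl⟩).1
  have h1 : ch hpF4 (F4Rig.dec n) t = ζ ^ (a 0 * (n % 16) + a 1 * (n / 16 % 16) + (a 2 * (n / 256 % 16) +
      a 3 * (n / 4096 % 16))) := by
    rw [← tchar_apply hpF4 cs C.locfin r ⟨t, C.mem⟩ hr, eq_lat (tchar hpF4 ⟨t, C.mem⟩), lat_apply]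
    have h2 : ∀ i : Fin 4, ((tchar hpF4 ⟨t, C.mem⟩ (Multiplicative.ofAdd (sr i)) : kˣ) : k) = ζ ^ a i := fun i => by
      rw [tchar_sr, hs]
    rw [Fin.prod_univ_four, Units.val_mul, Units.val_mul, Units.val_mul]
    show ((tchar hpF4 ⟨t, C.mem⟩ (Multiplicative.ofAdd (sr 0)) ^ ((n % 16 : ℕ) : ℤ) : kˣ) : k) *
      ((tchar hpF4 ⟨t, C.mem⟩ (Multiplicative.ofAdd (sr 1)) ^ ((n / 16 % 16 : ℕ) : ℤ) : kˣ) : k) *
      ((tchar hpF4 ⟨t, C.mem⟩ (Multiplicative.ofAdd (sr 2)) ^ ((n / 256 % 16 : ℕ) : ℤ) : kˣ) : k) *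
      ((tchar hpF4 ⟨t, C.mem⟩ (Multiplicative.ofAdd (sr 3)) ^ ((n / 4096 % 16 : ℕ) : ℤ) : kˣ) : k) = _
    rw [zpow_natCast, zpow_natCast, zpow_natCast, zpow_natCast, Units.val_pow_eq_pow_val, Units.val_pow_eq_pow_val,
      Units.val_pow_eq_pow_val, Units.val_pow_eq_pow_val, h2, h2, h2, h2, ← pow_mul, ← pow_mul, ← pow_mul, ← pow_mul,
      ← pow_add, ← pow_add, ← pow_add]
    congr 1
    ring
  have h2 : F4Rig.dec n ∈ Sx cs hpF4.isCartan (ch hpF4) t ↔ ch hpF4 (F4Rig.dec n) t = 1 :=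
    ⟨fun h => h.2, fun h => ⟨hr, h⟩⟩
  rw [h2, h1, hζ.pow_eq_one_iff_dvd]
  unfold F4Rig.Lc
  rw [List.mem_filter]
  constructor
  · intro h3
    refine ⟨hn, ?_⟩
    unfold F4Rig.par
    rw [Nat.beq_eq]
    exact Nat.mod_eq_zero_of_dvd h3
  · rintro ⟨-, h3⟩
    unfold F4Rig.par at h3
    rw [Nat.beq_eq] at h3
    exact Nat.dvd_of_mod_eq_zero h3

/-- **Rigidity.** -/
theorem rigid_two (hx1 : x ≠ 1) (G : (Fin 4 → ℤ) ≃+ (Fin 4 → ℤ))
    (hG : ∀ a ∈ Sx cs hpF4.isCartan (ch hpF4) t, 0 ≤ a → G a ∈ Sx cs hpF4.isCartan (ch hpF4) t ∧ 0 ≤ G a)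
    (y : Fin 4 → ℤ) : G y = y := by
  obtain ⟨ζ, a, hζ, ha, h0, hs, -⟩ := exists_nn cs C Nat.prime_two hx1
  refine F4Rig.rigid (ha 0) (ha 1) (ha 2) (ha 3) (fun h => ?_) G (fun n hn => ?_) y
  · unfold F4Tab13.Nz at h0
    omega
  · have hnp : n ∈ F4Rig.posC := (List.mem_filter.1 hn).1
    have h1 := (mem_iff_par cs C hζ hs hnp).2 hn
    obtain ⟨h2, h3⟩ := hG _ h1 ((pos_iff cs _).2 ⟨n, hnp, rfl⟩).2
    obtain ⟨m, hm, e⟩ := (pos_iff cs _).1 ⟨h2.1, h3⟩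
    refine ⟨m, ?_, e⟩
    rw [e] at h2
    exact (mem_iff_par cs C hζ hs hm).1 h2

theorem g_one (hx1 : x ≠ 1) (y : Fin 4 → ℤ) : g y = y := by
  refine rigid_two cs C hx1 g (fun a ha h0 => ⟨⟨(C.root a).2 ha.1, ?_⟩, C.pos a ha h0⟩) y
  rw [C.chg a ha.1, ha.2, one_pow]

/-- an element of `W` as an automorphism of the lattice -/
def repEq (w : W) : (Fin 4 → ℤ) ≃+ (Fin 4 → ℤ) where
  toFun := rep cs hpF4.isCartan w
  invFun := rep cs hpF4.isCartan w⁻¹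
  left_inv := rep_inv_apply cs hpF4.isCartan w
  right_inv := rep_apply_inv cs hpF4.isCartan w
  map_add' := map_add _

theorem card_PP_two (hx1 : x ≠ 1) : Nat.card ↥(PP cs hpF4.isCartan (ch hpF4) t) = 1 := by
  have h1 : PP cs hpF4.isCartan (ch hpF4) t = ⊥ := by
    rw [Subgroup.eq_bot_iff_forall]
    intro w hw
    obtain ⟨h1, h2⟩ := mem_PP.1 hw
    apply rep_faithful cs hpF4.isCartan
    intro y
    exact rigid_two cs C hx1 (repEq cs w) (fun a ha h0 => ⟨⟨ha.1.act w, by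
      show ch hpF4 (rep cs hpF4.isCartan w a) t = 1
      rw [h1 a ha.1]; exact ha.2⟩, h2 a ha h0⟩) y
  rw [h1, Subgroup.card_bot]

/-- **The centralisers of the involutions of `F₄(q)`.** -/
theorem bound_two (hx1 : x ≠ 1) : Nat.card ↥(Subgroup.centralizer {x}) ≤
    Nat.card F ^ mS hpF4 cs t * ((Nat.card F - 1) ^ 4 * (Nat.card F + 1) ^ mS hpF4 cs t) := by
  refine C.bound.trans ?_
  rw [card_PP_two cs C hx1, one_mul]
  exact Nat.mul_le_mul_left _ (Nat.mul_le_mul_right _ (C.le_one (g_one cs C hx1)))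

end inv



/-! #### the bounds -/

section fin

variable {F : Type u} [Field F] [Finite F]

theorem card_W : Nat.card CoxeterMatrix.F₄.Group = 1152 := S1092.result (⟨4, CoxeterMatrix.F₄⟩, 1152) (by simp)

theorem finite_F4 : Finite CoxeterMatrix.F₄.Group := Nat.finite_of_card_ne_zero (by rw [card_W]; norm_num)

theorem card_dvd_of_isPGroup {W : Type*} [Group W] [Finite W] {P : Subgroup W} {ℓ : ℕ} [Fact ℓ.Prime]
    (hP : IsPGroup ℓ P) {j m : ℕ} (hW : Nat.card W = ℓ ^ j * m) (hm : ¬ ℓ ∣ m) : Nat.card P ≤ ℓ ^ j := by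
  obtain ⟨n, hn⟩ := IsPGroup.iff_card.1 hP
  have h1 : Nat.card P ∣ Nat.card W := Subgroup.card_subgroup_dvd_card P
  rw [hW] at h1
  have h2 : Nat.card P ∣ ℓ ^ j := by
    refine Nat.Coprime.dvd_of_dvd_mul_right ?_ h1
    rw [hn]
    exact Nat.Coprime.pow_left n (((Fact.out : ℓ.Prime).coprime_iff_not_dvd).2 hm)
  exact Nat.le_of_dvd (pow_pos (Fact.out : ℓ.Prime).pos j) h2

/-- **Involutions.** -/
theorem cent_two (h2 : (2 : F) ≠ 0) {ρ : ↥(chevF4.group F) →* GL I27 F} (hρ : IsJ ρ) {x : ↥(chevF4.group F)}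
    (hx1 : x ≠ 1) (hx : x * x = 1) :
    (Nat.card ↥(Subgroup.centralizer {x}) ≤ Nat.card F ^ 10 * ((Nat.card F - 1) ^ 4 * (Nat.card F + 1) ^ 10) ∧
      ev (JK ρ x) 1 = 15) ∨
    (Nat.card ↥(Subgroup.centralizer {x}) ≤ Nat.card F ^ 16 * ((Nat.card F - 1) ^ 4 * (Nat.card F + 1) ^ 16) ∧
      ev (JK ρ x) 1 = 11) := by
  have := finite_F4
  obtain ⟨k, _, _, f, r, e, _, _, t, g, N, C⟩ := exists_cd hpF4 CoxeterMatrix.F₄.toCoxeterSystem Nat.prime_two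
    (F := F) (by exact_mod_cast h2) x (by rw [pow_two, hx])
  have h1 := bound_two _ C hx1
  rcases mS_two _ C rfl hx1 hx hρ with ⟨h3, h4⟩ | ⟨h3, h4⟩
  · rw [h3] at h1
    exact Or.inl ⟨h1, h4⟩
  · rw [h3] at h1
    exact Or.inr ⟨h1, h4⟩

/-- the form of the bounds for the odd primes -/
theorem bound_odd {ℓ : ℕ} [Fact ℓ.Prime] {x : ↥(chevF4.group F)} {k : Type u} [Field k] [IsAlgClosed k] {f : F →+* k}
    {r e : ℕ} [Fact r.Prime] [CharP k r] {t : ↥(chevF4.group k)} {g : (Fin 4 → ℤ) ≃+ (Fin 4 → ℤ)} {N : ℕ}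
    [Finite CoxeterMatrix.F₄.Group] (C : CD hpF4 CoxeterMatrix.F₄.toCoxeterSystem x ℓ f r e t g N) {m j : ℕ}
    (hm : mS hpF4 CoxeterMatrix.F₄.toCoxeterSystem t ≤ m) {c : ℕ} (hj : 1152 = ℓ ^ j * c) (hc : ¬ ℓ ∣ c) :
    Nat.card ↥(Subgroup.centralizer {x}) ≤
      Nat.card F ^ m * ((Nat.card F + 1) ^ 4 * (ℓ ^ j * (Nat.card F + 1) ^ m)) := by
  refine C.bound.trans ?_
  have h0 : 0 < Nat.card F := Nat.card_pos
  refine Nat.mul_le_mul (Nat.pow_le_pow_right h0 hm) (Nat.mul_le_mul C.le (Nat.mul_le_mul ?_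
    (Nat.pow_le_pow_right (Nat.succ_pos _) hm)))
  exact card_dvd_of_isPGroup C.isP (card_W.trans hj) hc

/-- **Elements of order `3`.** -/
theorem cent_three (h3 : (3 : F) ≠ 0) {x : ↥(chevF4.group F)} (hx1 : x ≠ 1) (hx : x ^ 3 = 1) :
    Nat.card ↥(Subgroup.centralizer {x}) ≤
      Nat.card F ^ 9 * ((Nat.card F + 1) ^ 4 * (9 * (Nat.card F + 1) ^ 9)) := by
  have := finite_F4
  have : Fact (Nat.Prime 3) := ⟨Nat.prime_three⟩
  obtain ⟨k, _, _, f, r, e, _, _, t, g, N, C⟩ := exists_cd hpF4 CoxeterMatrix.F₄.toCoxeterSystem Nat.prime_three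
    (F := F) (by exact_mod_cast h3) x hx
  exact bound_odd C (mS_three _ C rfl hx1 hx) (j := 2) (c := 128) (by norm_num) (by norm_num)

/-- **Elements of order `7`.** -/
theorem cent_seven (h7 : (7 : F) ≠ 0) (hq : Nat.card F % 7 = 3 ∨ Nat.card F % 7 = 5) {x : ↥(chevF4.group F)}
    (hx1 : x ≠ 1) (hx : x ^ 7 = 1) :
    Nat.card ↥(Subgroup.centralizer {x}) ≤
      Nat.card F ^ 3 * ((Nat.card F + 1) ^ 4 * (1 * (Nat.card F + 1) ^ 3)) := by
  have := finite_F4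
  have h7p : Nat.Prime 7 := by norm_num
  have : Fact (Nat.Prime 7) := ⟨h7p⟩
  obtain ⟨k, _, _, f, r, e, _, _, t, g, N, C⟩ := exists_cd hpF4 CoxeterMatrix.F₄.toCoxeterSystem h7p
    (F := F) (by exact_mod_cast h7) x hx
  exact bound_odd C (mS_seven _ C rfl hx1 hq).le (j := 0) (c := 1152) (by norm_num) (by norm_num)

/-- **Elements of order `13`.** -/
theorem cent_thirteen (h13 : (13 : F) ≠ 0) {x : ↥(chevF4.group F)} (hx1 : x ≠ 1) (hx : x ^ 13 = 1) :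
    Nat.card ↥(Subgroup.centralizer {x}) ≤
      Nat.card F ^ 9 * ((Nat.card F + 1) ^ 4 * (1 * (Nat.card F + 1) ^ 9)) ∧
    (Nat.card F % 13 = 3 → Nat.card ↥(Subgroup.centralizer {x}) ≤
      Nat.card F ^ 3 * ((Nat.card F + 1) ^ 4 * (1 * (Nat.card F + 1) ^ 3))) := by
  have := finite_F4
  have h13p : Nat.Prime 13 := by norm_num
  have : Fact (Nat.Prime 13) := ⟨h13p⟩
  obtain ⟨k, _, _, f, r, e, _, _, t, g, N, C⟩ := exists_cd hpF4 CoxeterMatrix.F₄.toCoxeterSystem h13p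
    (F := F) (by exact_mod_cast h13) x hx
  obtain ⟨h1, h2⟩ := mS_thirteen _ C rfl hx1
  exact ⟨bound_odd C h1 (j := 0) (c := 1152) (by norm_num) (by norm_num),
    fun hq => bound_odd C (h2 hq) (j := 0) (c := 1152) (by norm_num) (by norm_num)⟩

end fin

end F4

end Cfsg.Agent.H166.EP
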