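import Cfsg.Agent.H166.EP.D42Row
import Cfsg.Agent.H881.EX.D42Inv

/-!
# S5745: `T = ³D₄(2)` in `F₄(3)` and `F₄(5)` (helper166, T-side helper881)
-/

set_option autoImplicit false

namespace Cfsg.Agent.H166.EP

open Cfsg Cfsg.Lie Cfsg.Agent.H209.EPX

/-- **The rows `G = F₄(3)`, `F₄(5)`, `T = ³D₄(2)` of S5745.** -/
theorem f4_td42 {F : Type} [Field F] [Fintype F] (hF : Fintype.card F = 3 ∨ Fintype.card F = 5)
    {H N : Subgroup ↥(chevF4.group F)} {T : Type} [Group T] {e : N ≃* (Fin 1 → T)} (h : EPS H N e)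
    {K : Type} [Field K] [Fintype K] (hK : Fintype.card K = 8) (eT : T ≃* Lie.twistedD4 K 2) : False := by
  have hT : InvD T := Cfsg.Agent.H881.EX.D42Inv.d42_inv hK eT
  rcases hF with hF | hF
  · exact row_three' hF h hK eT hT
  · exact row_five' hF h hK eT hT

end Cfsg.Agent.H166.EP
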