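import Cfsg.Agent.H166.EP.EPiW
import Cfsg.Agent.H166.EP.CF4
import Cfsg.Agent.H357.EP.Signs
import Cfsg.Agent.S2129
import Cfsg.Agent.S1062
import Cfsg.Agent.S1067

/-!
# S5745, the rows `T = ³D₄(2)`, `G = F₄(3)`, `F₄(5)` (helper166)

* `InvD T` : the involutions of `T`;
* `no_pure` : on the module of dimension `27` of `F₄(q)`, `q` odd, an elementary abelian group of order `8` does not have
  all traces `-5`;
* `row_three`, `row_five` : the rows (with `InvD T` as a hypothesis).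
-/

set_option autoImplicit false
set_option linter.unusedSectionVars false

namespace Cfsg.Agent.H166.EP

open Subgroup Cfsg Cfsg.Lie Cfsg.Agent.H284 Cfsg.Agent.H209.EPX Cfsg.Agent.H807.EPX
open Cfsg.Agent.ChevalleyStructure.E6Min.Tables Cfsg.Agent.ChevalleyStructure.E6Min.Basic
open Cfsg.Agent.H952.F4

universe u

/-- The involutions of `T = ³D₄(2)`: at most `69615`, and outside of a set of at most `819` elements they lie in an
elementary abelian subgroup of order `8` with all involutions conjugate. -/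
def InvD (T : Type*) [Group T] : Prop :=
  Nat.card {x : T // x ≠ 1 ∧ x * x = 1} ≤ 69615 ∧ ∃ P : T → Prop, Nat.card {x : T // P x} ≤ 819 ∧
    ∀ x, x ≠ 1 → x * x = 1 → ¬ P x → ∃ E : Subgroup T, Nat.card E = 8 ∧ x ∈ E ∧ (∀ y ∈ E, y * y = 1) ∧
      ∀ y ∈ E, y ≠ 1 → IsConj x y

section pure

variable {F : Type u} [Field F] {ρ : ↥(chevF4.group F) →* GL I27 F}

theorem card_I27 : Fintype.card I27 = 27 := by simp [I27]

theorem rank_ev (x : ↥(chevF4.group F)) :
    (((ρ x : GL I27 F) : Matrix I27 I27 F) - 1).rank + ev (JK ρ x) 1 = 27 := by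
  set A : Matrix I27 I27 F := ((ρ x : GL I27 F) : Matrix I27 I27 F) with hA
  have h0 : JK ρ x = Matrix.toLin' A := rfl
  have h1 : Module.End.eigenspace (Matrix.toLin' A) (1 : F) = LinearMap.ker (Matrix.toLin' (A - 1)) := by
    rw [Module.End.eigenspace_def]
    congr 1
    rw [map_sub, Matrix.toLin'_one]
    congr 1
    refine LinearMap.ext fun v => ?_
    simp
  have h2 := LinearMap.finrank_range_add_finrank_ker (Matrix.toLin' (A - 1))
  rw [Module.finrank_fintype_fun_eq_card, card_I27] at h2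
  rw [h0]
  unfold ev
  rw [h1, Matrix.rank, ← Matrix.toLin'_apply']
  exact h2

theorem ev_isConj {x y : ↥(chevF4.group F)} (h : IsConj x y) : ev (JK ρ x) 1 = ev (JK ρ y) 1 := by
  obtain ⟨g, rfl⟩ := isConj_iff.1 h
  exact (TabLin.ev_conj (JK ρ) g x 1).symm

/-- **No pure `2³` with traces `-5`.** -/
theorem no_pure (h2 : (2 : F) ≠ 0) {T : Type*} [Group T] (f : T →* ↥(chevF4.group F)) {E : Subgroup T}
    (hE8 : Nat.card E = 8) {x : T} (hE : ∀ y ∈ E, y * y = 1) (hc : ∀ y ∈ E, y ≠ 1 → IsConj x y) :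
    ev (JK ρ (f x)) 1 ≠ 11 := by
  classical
  intro h11
  have hfE : Finite E := Nat.finite_of_card_ne_zero (by rw [hE8]; norm_num)
  have := Fintype.ofFinite E
  obtain ⟨κ, iκ, χ, h1, h3, h4, h5⟩ := H357.EP.exists_signs (E := E) h2 (fun y => Subtype.ext (hE y y.2))
    (ρ.comp (f.comp E.subtype))
  obtain ⟨m, hm⟩ := H357.EP.sum_beta h3 h4
  have hb : ∀ y : E, ∑ i, χ i y = if y = 1 then (27 : ℤ) else -5 := by
    intro y
    rw [← h5, card_I27]
    have h6 := rank_ev (ρ := ρ) (f (y : T))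
    show ((27 : ℕ) : ℤ) - 2 * (((((ρ (f (y : T)) : GL I27 F) : Matrix I27 I27 F) - 1).rank : ℕ) : ℤ) = _
    split_ifs with hy
    · have h7 : ρ (f (y : T)) = 1 := by rw [hy]; simp
      rw [h7, Units.val_one, sub_self, Matrix.rank_zero]
      norm_num
    · have h7 : ev (JK ρ (f (y : T))) 1 = 11 := by
        rw [← h11]
        refine (ev_isConj (MonoidHom.map_isConj f (hc y y.2 fun h => hy (Subtype.ext h)))).symm
      rw [h7] at h6
      have h8 : (((ρ (f (y : T)) : GL I27 F) : Matrix I27 I27 F) - 1).rank = 16 := by omega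
      rw [h8]
      norm_num
  rw [Finset.sum_congr rfl fun y _ => hb y, Finset.sum_ite, Finset.sum_const, Finset.sum_const, ← Nat.card_eq_fintype_card,
    hE8] at hm
  have e1 : (Finset.univ.filter fun y : E => y = 1).card = 1 := by
    rw [Finset.filter_eq' Finset.univ (1 : E), if_pos (Finset.mem_univ _), Finset.card_singleton]
  have e2 := Finset.card_filter_add_card_filter_not (s := (Finset.univ : Finset E)) (fun y => y = 1)
  rw [Finset.card_univ, ← Nat.card_eq_fintype_card, hE8, e1] at e2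
  have e3 : (Finset.univ.filter fun y : E => ¬ y = 1).card = 7 := by omega
  rw [e1, e3] at hm
  simp only [nsmul_eq_mul] at hm
  push_cast at hm
  omega

end pure

section rows

variable {F : Type} [Field F] [Fintype F] {H N : Subgroup ↥(chevF4.group F)} {T : Type} [Group T]
  {e : N ≃* (Fin 1 → T)}

/-- the order of `T` and `|Out T|` -/
theorem dataT {K : Type} [Field K] [Fintype K] (hK : Fintype.card K = 8) (eT : T ≃* Lie.twistedD4 K 2) :
    Nat.card T = 211341312 ∧ Nat.card (Cfsg.Out T) = 3 := by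
  have h2 : Fact (Nat.Prime 2) := ⟨Nat.prime_two⟩
  have hch : CharP K 2 := by
    obtain ⟨p, hp⟩ := CharP.exists K
    obtain ⟨n, hpp, hn⟩ := FiniteField.card K p
    have h3 : p = 2 := by
      have h4 : p ∣ 2 ^ 3 := by
        have h5 : Fintype.card K = 2 ^ 3 := hK
        rw [← h5, hn]
        exact dvd_pow_self p n.ne_zero
      exact (Nat.prime_dvd_prime_iff_eq hpp Nat.prime_two).1 (hpp.dvd_of_dvd_pow h4)
    rw [← h3]
    exact hp
  constructor
  · rw [Nat.card_congr eT.toEquiv, Cfsg.Agent.S1067.result Nat.prime_two.isPrimePow (K := K) (by rw [hK]; norm_num)]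
    norm_num
  · have h3 := Cfsg.Agent.S2129.result (K := K) 2 1 (by rw [hK]; norm_num) le_rfl
    rw [pow_one] at h3
    have h4 : Nat.card (Cfsg.Out T) = Nat.card (Cfsg.Out ↥(Lie.twistedD4 K 2)) := by
      have e1 := Subgroup.card_eq_card_quotient_mul_card_subgroup (Cfsg.Inn T)
      have e2 := Subgroup.card_eq_card_quotient_mul_card_subgroup (Cfsg.Inn ↥(Lie.twistedD4 K 2))
      have e3 : Nat.card (MulAut T) = Nat.card (MulAut ↥(Lie.twistedD4 K 2)) :=
        Nat.card_congr (MulAut.congr eT).toEquiv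
      have e4 : Nat.card ↥(Cfsg.Inn T) = Nat.card ↥(Cfsg.Inn ↥(Lie.twistedD4 K 2)) := by
        have e5 : (Cfsg.Inn T).map (MulAut.congr eT).toMonoidHom = Cfsg.Inn ↥(Lie.twistedD4 K 2) := by
          ext φ
          constructor
          · rintro ⟨_, ⟨g, rfl⟩, rfl⟩
            refine ⟨eT g, ?_⟩
            ext y
            simp [MulAut.congr]
          · rintro ⟨g, rfl⟩
            refine ⟨MulAut.conj (eT.symm g), ⟨_, rfl⟩, ?_⟩
            ext y
            simp [MulAut.congr]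
        rw [← e5]
        exact Nat.card_congr ((Cfsg.Inn T).equivMapOfInjective _ (MulAut.congr eT).injective).toEquiv
      have hf : Finite ↥(Lie.twistedD4 K 2) := inferInstance
      have e6 : 0 < Nat.card ↥(Cfsg.Inn ↥(Lie.twistedD4 K 2)) := Nat.card_pos
      rw [e3, e2, e4] at e1
      exact (Nat.eq_of_mul_eq_mul_right e6 e1).symm
    rw [h4, h3]

variable {ρ : ↥(chevF4.group F) →* GL I27 F}

/-- the data of `H` -/
structure DH (h : EPS H N e) : Prop where
  dvd : Nat.card H ∣ 634023936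
  mem : ∀ x ∈ H, x * x = 1 → x ∈ N

theorem exists_dh (h : EPS H N e) {K : Type} [Field K] [Fintype K] (hK : Fintype.card K = 8)
    (eT : T ≃* Lie.twistedD4 K 2) : DH h := by
  obtain ⟨h1, h2⟩ := dataT hK eT
  refine ⟨?_, fun x hx hx2 => mem_N h hx (m := 2) (by rw [pow_two, hx2]) (by rw [h2]; norm_num)⟩
  have h3 := card_H_dvd h
  rw [h1, h2] at h3
  exact h3

theorem orderOf_two_iff {G : Type*} [Group G] {x : G} : orderOf x = 2 ↔ x ≠ 1 ∧ x * x = 1 := by
  constructor
  · intro h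
    refine ⟨fun h1 => ?_, ?_⟩
    · rw [h1, orderOf_one] at h
      omega
    · rw [← pow_two, ← h, pow_orderOf_eq_one]
  · rintro ⟨h1, h2⟩
    exact orderOf_eq_prime (by rw [pow_two, h2]) h1

theorem ncard_two (h : EPS H N e) (D : DH h) (hT : InvD T) :
    {x : ↥(chevF4.group F) | x ∈ H ∧ orderOf x = 2}.ncard ≤ 69615 := by
  refine le_trans ?_ hT.1
  let e' : N ≃* T := e.trans (MulEquiv.funUnique (Fin 1) T)
  have hfT : Finite T := Finite.of_equiv N e'.toEquiv
  have hm : ∀ x : {x : ↥(chevF4.group F) | x ∈ H ∧ orderOf x = 2}, x.1 ∈ N := fun x =>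
    D.mem x.1 x.2.1 (orderOf_two_iff.1 x.2.2).2
  refine Nat.card_le_card_of_injective (fun x : {x : ↥(chevF4.group F) | x ∈ H ∧ orderOf x = 2} =>
    (⟨e' ⟨x.1, hm x⟩, ?_, ?_⟩ : {x : T // x ≠ 1 ∧ x * x = 1})) ?_
  · intro h1
    have h2 : (⟨x.1, hm x⟩ : N) = 1 := e'.injective (h1.trans (map_one e').symm)
    exact (orderOf_two_iff.1 x.2.2).1 (congrArg Subtype.val h2)
  · rw [← map_mul]
    have h2 : (⟨x.1, hm x⟩ : N) * ⟨x.1, hm x⟩ = 1 := Subtype.ext (orderOf_two_iff.1 x.2.2).2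
    rw [h2, map_one]
  · intro a b hab
    have h1 := congrArg Subtype.val hab
    exact Subtype.ext (congrArg (fun y : N => (y : ↥(chevF4.group F))) (e'.injective h1))

theorem ncard_a (h2 : (2 : F) ≠ 0) (h : EPS H N e) (D : DH h) (hT : InvD T) :
    {x : ↥(chevF4.group F) | (x ∈ H ∧ orderOf x = 2) ∧ ev (JK ρ x) 1 = 11}.ncard ≤ 819 := by
  obtain ⟨-, P, hP, hx⟩ := hT
  refine le_trans ?_ hP
  let e' : N ≃* T := e.trans (MulEquiv.funUnique (Fin 1) T)
  have hfT : Finite T := Finite.of_equiv N e'.toEquiv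
  have hm : ∀ x : {x : ↥(chevF4.group F) | (x ∈ H ∧ orderOf x = 2) ∧ ev (JK ρ x) 1 = 11}, x.1 ∈ N := fun x =>
    D.mem x.1 x.2.1.1 (orderOf_two_iff.1 x.2.1.2).2
  refine Nat.card_le_card_of_injective (fun x : {x : ↥(chevF4.group F) | (x ∈ H ∧ orderOf x = 2) ∧
    ev (JK ρ x) 1 = 11} => (⟨e' ⟨x.1, hm x⟩, ?_⟩ : {x : T // P x})) ?_
  · by_contra hPx
    have h1 : e' ⟨x.1, hm x⟩ ≠ 1 := by
      intro h1
      have h2 : (⟨x.1, hm x⟩ : N) = 1 := e'.injective (h1.trans (map_one e').symm)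
      exact (orderOf_two_iff.1 x.2.1.2).1 (congrArg Subtype.val h2)
    have h3 : e' ⟨x.1, hm x⟩ * e' ⟨x.1, hm x⟩ = 1 := by
      rw [← map_mul]
      have h2 : (⟨x.1, hm x⟩ : N) * ⟨x.1, hm x⟩ = 1 := Subtype.ext (orderOf_two_iff.1 x.2.1.2).2
      rw [h2, map_one]
    obtain ⟨E, hE8, -, hE, hc⟩ := hx _ h1 h3 hPx
    have h4 := no_pure (ρ := ρ) h2 (N.subtype.comp e'.symm.toMonoidHom) hE8 hE hc
    apply h4
    have h5 : (N.subtype.comp e'.symm.toMonoidHom) (e' ⟨x.1, hm x⟩) = x.1 := by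
      show ((e'.symm (e' ⟨x.1, hm x⟩) : N) : ↥(chevF4.group F)) = x.1
      rw [MulEquiv.symm_apply_apply]
    rw [h5]
    exact x.2.2
  · intro a b hab
    have h1 := congrArg Subtype.val hab
    exact Subtype.ext (congrArg (fun y : N => (y : ↥(chevF4.group F))) (e'.injective h1))

theorem Sec_two (h : EPS H N e) (D : DH h) (hT : InvD T) {x : ↥(chevF4.group F)} (hx : orderOf x = 2) :
    Sec H x ≤ 69615 := by
  refine (Sec_le x).trans ?_
  rw [hx]
  exact ncard_two h D hT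

theorem Sec_a (h2 : (2 : F) ≠ 0) (h : EPS H N e) (D : DH h) (hT : InvD T) {x : ↥(chevF4.group F)}
    (hx : orderOf x = 2) (hx11 : ev (JK ρ x) 1 = 11) : Sec H x ≤ 819 := by
  refine le_trans ?_ (ncard_a (ρ := ρ) h2 h D hT)
  apply Set.ncard_le_ncard _ (Set.toFinite _)
  rintro y ⟨hy, hxy⟩
  refine ⟨⟨hy, ?_⟩, ?_⟩
  · obtain ⟨c, rfl⟩ := isConj_iff.1 hxy
    rw [orderOf_cj, hx]
  · rw [← ev_isConj hxy, hx11]

theorem Sec_le_card (x : ↥(chevF4.group F)) {n : ℕ} (hn : Nat.card H ≤ n) : Sec H x ≤ n := by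
  refine le_trans ?_ hn
  exact Set.ncard_le_ncard (fun y hy => hy.1) (Set.toFinite _)

theorem primes (h : EPS H N e) (D : DH h) {r s : ℕ} (hr : r ∈ (Nat.card H).primeFactors.erase s) :
    r ≠ s ∧ (r = 2 ∨ r = 3 ∨ r = 7 ∨ r = 13) := by
  rw [Finset.mem_erase, Nat.mem_primeFactors] at hr
  obtain ⟨hr2, hrp, hrd, -⟩ := hr
  refine ⟨hr2, ?_⟩
  have h1 : r ∣ 2 ^ 12 * (3 ^ 5 * (7 ^ 2 * 13)) := by
    have h3 : (2 ^ 12 * (3 ^ 5 * (7 ^ 2 * 13)) : ℕ) = 634023936 := by norm_num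
    rw [h3]
    exact hrd.trans D.dvd
  have hq : ∀ {p : ℕ}, p.Prime → r ∣ p → r = p := fun hp hd => (Nat.prime_dvd_prime_iff_eq hrp hp).1 hd
  rw [hrp.dvd_mul, hrp.dvd_mul, hrp.dvd_mul] at h1
  rcases h1 with h1 | h1 | h1 | h1
  · exact Or.inl (hq Nat.prime_two (hrp.dvd_of_dvd_pow h1))
  · exact Or.inr (Or.inl (hq Nat.prime_three (hrp.dvd_of_dvd_pow h1)))
  · exact Or.inr (Or.inr (Or.inl (hq (by norm_num) (hrp.dvd_of_dvd_pow h1))))
  · exact Or.inr (Or.inr (Or.inr (hq (by norm_num) h1)))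

theorem cast_ne {p ℓ : ℕ} (hp : p.Prime) {n : ℕ} (hF : Fintype.card F = p ^ n) (hℓ : ¬ p ∣ ℓ) :
    (ℓ : F) ≠ 0 := by
  intro h0
  obtain ⟨q, hq⟩ := CharP.exists F
  obtain ⟨m, hqp, hm⟩ := FiniteField.card F q
  have h3 : q = p := by
    have h4 : q ∣ p ^ n := by
      rw [← hF, hm]
      exact dvd_pow_self q m.ne_zero
    exact (Nat.prime_dvd_prime_iff_eq hqp hp).1 (hqp.dvd_of_dvd_pow h4)
  apply hℓ
  rw [← h3]
  exact (CharP.cast_eq_zero_iff F q ℓ).1 h0

/-- **The row `G = F₄(3)`, `T = ³D₄(2)` of S5745.** -/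
theorem row_three' (hF : Fintype.card F = 3) (h : EPS H N e) {K : Type} [Field K] [Fintype K]
    (hK : Fintype.card K = 8) (eT : T ≃* Lie.twistedD4 K 2) (hT : InvD T) : False := by
  have D := exists_dh h hK eT
  have hn : Nat.card H ≤ 634023936 := Nat.le_of_dvd (by norm_num) D.dvd
  have hF3 : Fintype.card F = 3 ^ 1 := by rw [hF, pow_one]
  have hFn : Nat.card F = 3 := by rw [Nat.card_eq_fintype_card, hF]
  have h2F : (2 : F) ≠ 0 := by exact_mod_cast cast_ne (F := F) (ℓ := 2) Nat.prime_three hF3 (by norm_num)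
  have h7F : (7 : F) ≠ 0 := by exact_mod_cast cast_ne (F := F) (ℓ := 7) Nat.prime_three hF3 (by norm_num)
  have h13F : (13 : F) ≠ 0 := by
    exact_mod_cast cast_ne (F := F) (ℓ := 13) Nat.prime_three hF3 (by norm_num)
  obtain ⟨ρ, hρ⟩ := JMod.exists_isJ F
  have hG := Cfsg.Agent.S1062.result hF
  have key := EPi_three (H := H) (π := {r : ℕ | r ∈ (Nat.card H).primeFactors.erase 3})
    (fun r hr => Nat.prime_of_mem_primeFactors (Finset.mem_of_mem_erase hr))
    (H742.EX.EPS.hM_odd h Nat.prime_three (by norm_num))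
    (A1 := {x : ↥(chevF4.group F) | (x ∈ H ∧ orderOf x = 2) ∧ ev (JK ρ x) 1 = 11})
    (A2 := {x : ↥(chevF4.group F) | x ∈ H ∧ orderOf x = 2})
    (c1 := 3 ^ 16 * ((3 - 1) ^ 4 * (3 + 1) ^ 16) * 819) (c2 := 3 ^ 10 * ((3 - 1) ^ 4 * (3 + 1) ^ 10) * 69615)
    (c3 := 3 ^ 3 * ((3 + 1) ^ 4 * (1 * (3 + 1) ^ 3)) * 634023936)
    (ncard_a (ρ := ρ) h2F h D hT) (ncard_two h D hT) hn ?_
  · rw [hG] at key
    norm_num at key
  · intro x hx hxo
    obtain ⟨hne, hr⟩ := primes h D hxo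
    have hx1 : x ≠ 1 := by
      rintro rfl
      rw [orderOf_one] at hr
      omega
    rcases hr with hr | hr | hr | hr
    · -- involutions
      have hxx : x * x = 1 := (orderOf_two_iff.1 hr).2
      rw [hr]
      rcases cent_two h2F hρ hx1 hxx with ⟨h3, h4⟩ | ⟨h3, h4⟩
      · right; left
        rw [hFn] at h3
        exact ⟨⟨hx, hr⟩, by
          rw [show (2 - 1 : ℕ) = 1 from rfl, mul_one]
          exact Nat.mul_le_mul h3 (Sec_two h D hT hr)⟩
      · left
        rw [hFn] at h3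
        exact ⟨⟨⟨hx, hr⟩, h4⟩, by
          rw [show (2 - 1 : ℕ) = 1 from rfl, mul_one]
          exact Nat.mul_le_mul h3 (Sec_a h2F h D hT hr h4)⟩
    · exact absurd hr hne
    · right; right
      have h3 := cent_seven h7F (Or.inl (by rw [hFn])) hx1 (by rw [← hr, pow_orderOf_eq_one])
      rw [hFn] at h3
      rw [hr]
      exact (Nat.mul_le_mul h3 (Sec_le_card x hn)).trans (Nat.le_mul_of_pos_right _ (by norm_num))
    · right; right
      have h3 := (cent_thirteen h13F hx1 (by rw [← hr, pow_orderOf_eq_one])).2 (by rw [hFn])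
      rw [hFn] at h3
      rw [hr]
      exact (Nat.mul_le_mul h3 (Sec_le_card x hn)).trans (Nat.le_mul_of_pos_right _ (by norm_num))

/-- **The row `G = F₄(5)`, `T = ³D₄(2)` of S5745.** -/
theorem row_five' (hF : Fintype.card F = 5) (h : EPS H N e) {K : Type} [Field K] [Fintype K]
    (hK : Fintype.card K = 8) (eT : T ≃* Lie.twistedD4 K 2) (hT : InvD T) : False := by
  have D := exists_dh h hK eT
  have hn : Nat.card H ≤ 634023936 := Nat.le_of_dvd (by norm_num) D.dvd
  have h5p : Nat.Prime 5 := by norm_num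
  have hF3 : Fintype.card F = 5 ^ 1 := by rw [hF, pow_one]
  have hFn : Nat.card F = 5 := by rw [Nat.card_eq_fintype_card, hF]
  have h2F : (2 : F) ≠ 0 := by exact_mod_cast cast_ne (F := F) (ℓ := 2) h5p hF3 (by norm_num)
  have h3F : (3 : F) ≠ 0 := by exact_mod_cast cast_ne (F := F) (ℓ := 3) h5p hF3 (by norm_num)
  have h7F : (7 : F) ≠ 0 := by exact_mod_cast cast_ne (F := F) (ℓ := 7) h5p hF3 (by norm_num)
  have h13F : (13 : F) ≠ 0 := by exact_mod_cast cast_ne (F := F) (ℓ := 13) h5p hF3 (by norm_num)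
  obtain ⟨ρ, hρ⟩ := JMod.exists_isJ F
  have hG := Cfsg.Agent.S1062.result hF
  have key := EPi_three (H := H) (π := {r : ℕ | r ∈ (Nat.card H).primeFactors.erase 5})
    (fun r hr => Nat.prime_of_mem_primeFactors (Finset.mem_of_mem_erase hr))
    (H742.EX.EPS.hM_odd h h5p (by norm_num))
    (A1 := ∅) (n1 := 0) (c1 := 0)
    (A2 := {x : ↥(chevF4.group F) | x ∈ H ∧ orderOf x = 2})
    (c2 := 5 ^ 16 * ((5 - 1) ^ 4 * (5 + 1) ^ 16) * 69615)
    (c3 := 5 ^ 9 * ((5 + 1) ^ 4 * (9 * (5 + 1) ^ 9)) * 634023936)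
    (by simp) (ncard_two h D hT) hn ?_
  · rw [hG] at key
    norm_num at key
  · intro x hx hxo
    obtain ⟨hne, hr⟩ := primes h D hxo
    have hx1 : x ≠ 1 := by
      rintro rfl
      rw [orderOf_one] at hr
      omega
    rcases hr with hr | hr | hr | hr
    · -- involutions
      have hxx : x * x = 1 := (orderOf_two_iff.1 hr).2
      rw [hr]
      right; left
      refine ⟨⟨hx, hr⟩, ?_⟩
      rw [show (2 - 1 : ℕ) = 1 from rfl, mul_one]
      rcases cent_two h2F hρ hx1 hxx with ⟨h3, -⟩ | ⟨h3, -⟩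
      · rw [hFn] at h3
        exact Nat.mul_le_mul (h3.trans (by norm_num)) (Sec_two h D hT hr)
      · rw [hFn] at h3
        exact Nat.mul_le_mul h3 (Sec_two h D hT hr)
    · right; right
      have h3 := cent_three h3F hx1 (by rw [← hr, pow_orderOf_eq_one])
      rw [hFn] at h3
      rw [hr]
      exact (Nat.mul_le_mul h3 (Sec_le_card x hn)).trans (Nat.le_mul_of_pos_right _ (by norm_num))
    · right; right
      have h3 := cent_seven h7F (Or.inr (by rw [hFn])) hx1 (by rw [← hr, pow_orderOf_eq_one])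
      rw [hFn] at h3
      rw [hr]
      exact (Nat.mul_le_mul (h3.trans (by norm_num)) (Sec_le_card x hn)).trans (Nat.le_mul_of_pos_right _ (by norm_num))
    · right; right
      have h3 := (cent_thirteen h13F hx1 (by rw [← hr, pow_orderOf_eq_one])).1
      rw [hFn] at h3
      rw [hr]
      exact (Nat.mul_le_mul (h3.trans (by norm_num)) (Sec_le_card x hn)).trans (Nat.le_mul_of_pos_right _ (by norm_num))

end rows

end Cfsg.Agent.H166.EP
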