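import Cfsg.Agent.H742.EX.NoS
import Cfsg.Agent.H807.EPX.EPi
import Cfsg.Prelude.Def_KGroupFacts

/-!
# `E_π` with three kinds of elements; the stabiliser in the case `k = 1` (helper166, S5745)

* `EPi_three` : `|G| ≤ n + n₁ c₁ + n₂ c₂ + n c₃`;
* `card_H_dvd` : `|H|` divides `|T| * |Out T|` (`k = 1`);
* `mem_N` : an element of `H` of order prime to `|Out T|` lies in `N`.
-/

set_option autoImplicit false
set_option linter.unusedSectionVars false

namespace Cfsg.Agent.H166.EP

open Subgroup Cfsg Cfsg.Agent.H284 Cfsg.Agent.H209.EPX Cfsg.Agent.H807.EPX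

section

variable {G : Type*} [Group G] {H : Subgroup G}

/-- **`E_π`** with three kinds of elements. -/
theorem EPi_three [Finite G] {π : Set ℕ} (hπ : ∀ r ∈ π, r.Prime)
    (hM : ∀ y ∉ H, ∃ r ∈ π, r ∣ Nat.card (H ⊓ cj y H : Subgroup G)) {A1 A2 : Set G} {n1 n2 n c1 c2 c3 : ℕ}
    (h1 : A1.ncard ≤ n1) (h2 : A2.ncard ≤ n2) (hn : Nat.card H ≤ n)
    (hx : ∀ x ∈ H, orderOf x ∈ π →
      (x ∈ A1 ∧ Nat.card (centralizer {x}) * Sec H x ≤ c1 * (orderOf x - 1)) ∨
      (x ∈ A2 ∧ Nat.card (centralizer {x}) * Sec H x ≤ c2 * (orderOf x - 1)) ∨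
      Nat.card (centralizer {x}) * Sec H x ≤ c3 * (orderOf x - 1)) :
    Nat.card G ≤ n + (n1 * c1 + n2 * c2 + n * c3) := by
  classical
  have key := EPi_cent (H := H) hπ hM
  set P := (Set.toFinite {x : G | x ∈ H ∧ orderOf x ∈ π}).toFinset with hP
  have hPm : ∀ x, x ∈ P ↔ x ∈ H ∧ orderOf x ∈ π := fun x => by rw [hP, Set.Finite.mem_toFinset]; rfl
  let a1 : Finset G := P.filter (fun x => x ∈ A1)
  let a2 : Finset G := P.filter (fun x => x ∈ A2)
  have hterm : ∀ x ∈ P, ((Nat.card (centralizer {x}) : ℚ) * Sec H x - Nat.card H) / ((orderOf x : ℚ) - 1) ≤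
      (if x ∈ A1 then (c1 : ℚ) else 0) + (if x ∈ A2 then (c2 : ℚ) else 0) + c3 := by
    intro x hxP
    obtain ⟨hxH, hxo⟩ := (hPm x).1 hxP
    have ho : (0 : ℚ) < (orderOf x : ℚ) - 1 := by
      have : (1 : ℚ) < orderOf x := by exact_mod_cast (hπ _ hxo).one_lt
      linarith
    have h6 : (0 : ℚ) ≤ Nat.card H := Nat.cast_nonneg _
    have hc : ∀ c : ℕ, Nat.card (centralizer {x}) * Sec H x ≤ c * (orderOf x - 1) →
        ((Nat.card (centralizer {x}) : ℚ) * Sec H x - Nat.card H) / ((orderOf x : ℚ) - 1) ≤ c := by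
      intro c hc
      rw [div_le_iff₀ ho]
      have h7 : ((Nat.card (centralizer {x}) * Sec H x : ℕ) : ℚ) ≤ ((c * (orderOf x - 1) : ℕ) : ℚ) := by
        exact_mod_cast hc
      rw [Nat.cast_mul, Nat.cast_mul, Nat.cast_sub (hπ _ hxo).one_lt.le, Nat.cast_one] at h7
      linarith
    have p1 : (0 : ℚ) ≤ (if x ∈ A1 then (c1 : ℚ) else 0) := by split_ifs <;> positivity
    have p2 : (0 : ℚ) ≤ (if x ∈ A2 then (c2 : ℚ) else 0) := by split_ifs <;> positivity
    have p3 : (0 : ℚ) ≤ (c3 : ℚ) := Nat.cast_nonneg _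
    rcases hx x hxH hxo with ⟨h3, h4⟩ | ⟨h3, h4⟩ | h4
    · rw [if_pos h3]
      have := hc _ h4
      linarith
    · rw [if_pos h3]
      have := hc _ h4
      linarith
    · have := hc _ h4
      linarith
  have h3 := key.trans (Finset.sum_le_sum hterm)
  rw [Finset.sum_add_distrib, Finset.sum_add_distrib, Finset.sum_const, nsmul_eq_mul, ← Finset.sum_filter,
    ← Finset.sum_filter, Finset.sum_const, Finset.sum_const, nsmul_eq_mul, nsmul_eq_mul] at h3
  have e1 : ((P.filter fun x => x ∈ A1).card : ℚ) ≤ n1 := by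
    have h4 : (P.filter fun x => x ∈ A1).card ≤ A1.ncard := by
      rw [← Set.ncard_coe_finset]
      exact Set.ncard_le_ncard (fun x hx => (Finset.mem_filter.1 hx).2) (Set.toFinite _)
    exact_mod_cast h4.trans h1
  have e2 : ((P.filter fun x => x ∈ A2).card : ℚ) ≤ n2 := by
    have h4 : (P.filter fun x => x ∈ A2).card ≤ A2.ncard := by
      rw [← Set.ncard_coe_finset]
      exact Set.ncard_le_ncard (fun x hx => (Finset.mem_filter.1 hx).2) (Set.toFinite _)
    exact_mod_cast h4.trans h2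
  have e3 : (P.card : ℚ) ≤ n := by
    have h4 : P.card ≤ (H : Set G).ncard := by
      rw [← Set.ncard_coe_finset]
      exact Set.ncard_le_ncard (fun x hx => ((hPm x).1 hx).1) (Set.toFinite _)
    exact_mod_cast h4.trans hn
  have e4 : (Nat.card H : ℚ) ≤ n := by exact_mod_cast hn
  have f1 := mul_le_mul_of_nonneg_right e1 (Nat.cast_nonneg (α := ℚ) c1)
  have f2 := mul_le_mul_of_nonneg_right e2 (Nat.cast_nonneg (α := ℚ) c2)
  have f3 := mul_le_mul_of_nonneg_right e3 (Nat.cast_nonneg (α := ℚ) c3)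
  have h5 : (Nat.card G : ℚ) ≤ ((n + (n1 * c1 + n2 * c2 + n * c3) : ℕ) : ℚ) := by
    push_cast
    linarith
  exact_mod_cast h5

end

section stab

variable {G : Type*} [Group G] [Finite G] {H N : Subgroup G} {T : Type} [Group T] {e : N ≃* (Fin 1 → T)}

/-- the action of `H` on `N` -/
noncomputable def actN (h : NIn N H) : H →* MulAut N where
  toFun g :=
    { toFun := fun n => ⟨g * n * (g : G)⁻¹, h.nrm g g.2 n n.2⟩
      invFun := fun n => ⟨(g : G)⁻¹ * n * g, by
        have := h.nrm (g : G)⁻¹ (inv_mem g.2) n n.2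
        rwa [inv_inv] at this⟩
      left_inv := fun n => Subtype.ext (by simp [mul_assoc])
      right_inv := fun n => Subtype.ext (by simp [mul_assoc])
      map_mul' := fun a b => Subtype.ext (by simp [mul_assoc]) }
  map_one' := by
    ext n
    simp
  map_mul' := fun a b => by
    ext n
    simp [mul_assoc]

theorem card_aut_dvd {T : Type*} [Group T] [Finite T] : Nat.card (MulAut T) ∣ Nat.card T * Nat.card (Cfsg.Out T) := by
  have h1 := Subgroup.card_eq_card_quotient_mul_card_subgroup (Cfsg.Inn T)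
  have h2 : Nat.card (Cfsg.Inn T) ∣ Nat.card T := Subgroup.card_range_dvd (MulAut.conj : T →* MulAut T)
  rw [h1, mul_comm]
  exact mul_dvd_mul h2 dvd_rfl

theorem card_H_dvd (h : EPS H N e) : Nat.card H ∣ Nat.card T * Nat.card (Cfsg.Out T) := by
  let e' : N ≃* T := e.trans (MulEquiv.funUnique (Fin 1) T)
  have hfT : Finite T := Finite.of_equiv N e'.toEquiv
  have hfA : Finite (MulAut T) := inferInstance
  let f : H →* MulAut T := (MulAut.congr e').toMonoidHom.comp (actN h.toNIn)
  have hf : Function.Injective f := by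
    have h1 : Function.Injective (actN h.toNIn) := by
      rw [injective_iff_map_eq_one]
      intro g hg
      have h2 : (g : G) ∈ Subgroup.centralizer (N : Set G) := by
        rw [Subgroup.mem_centralizer_iff]
        intro n hn
        have h3 := congrArg (fun φ : MulAut N => ((φ ⟨n, hn⟩ : N) : G)) hg
        have h4 : (g : G) * n * (g : G)⁻¹ = n := h3
        rw [mul_inv_eq_iff_eq_mul] at h4
        exact h4.symm
      rw [h.cent, mem_bot] at h2
      exact Subtype.ext h2
    exact (MulAut.congr e').injective.comp h1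
  exact (Subgroup.card_dvd_of_injective f hf).trans card_aut_dvd

theorem card_N (h : EPS H N e) : Nat.card N = Nat.card T :=
  Nat.card_congr (e.trans (MulEquiv.funUnique (Fin 1) T)).toEquiv

/-- **Elements of order prime to `|Out T|` lie in `N`.** -/
theorem mem_N (h : EPS H N e) {x : G} (hx : x ∈ H) {m : ℕ} (hm : x ^ m = 1) (hc : m.Coprime (Nat.card (Cfsg.Out T))) :
    x ∈ N := by
  have hfT : Finite T := Finite.of_equiv N (e.trans (MulEquiv.funUnique (Fin 1) T)).toEquiv
  have hN : (N.subgroupOf H).Normal := by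
    constructor
    intro n hn g
    exact h.nrm g g.2 n hn
  have h1 := card_H_dvd h
  have h2 : Nat.card (N.subgroupOf H) = Nat.card T := by
    rw [← card_N h]
    exact Nat.card_congr (Subgroup.subgroupOfEquivOfLe h.le).toEquiv
  have h3 : (N.subgroupOf H).index ∣ Nat.card (Cfsg.Out T) := by
    have h4 := (N.subgroupOf H).card_mul_index
    rw [h2] at h4
    rw [← h4] at h1
    exact Nat.dvd_of_mul_dvd_mul_left Nat.card_pos h1
  have h5 : (⟨x, hx⟩ : H) ^ (N.subgroupOf H).index ∈ N.subgroupOf H := Subgroup.pow_index_mem _ _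
  have h6 : x ^ (N.subgroupOf H).index ∈ N := h5
  have h7 : m.Coprime (N.subgroupOf H).index := Nat.Coprime.coprime_dvd_right h3 hc
  have h8 := Int.isCoprime_iff_gcd_eq_one.2 (show Int.gcd (m : ℤ) ((N.subgroupOf H).index : ℤ) = 1 from h7)
  obtain ⟨u, v, huv⟩ := h8
  have h9 : x = (x ^ (N.subgroupOf H).index) ^ v := by
    calc x = x ^ (1 : ℤ) := (zpow_one x).symm
      _ = x ^ (u * (m : ℤ) + v * ((N.subgroupOf H).index : ℤ)) := by rw [huv]
      _ = (x ^ (N.subgroupOf H).index) ^ v := by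
        rw [zpow_add, mul_comm u, zpow_mul, zpow_natCast, hm, one_zpow, one_mul, mul_comm v, zpow_mul, zpow_natCast]
  rw [h9]
  exact zpow_mem h6 v

end stab

end Cfsg.Agent.H166.EP
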